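import Groth.Agent.DepthLib.CohenMacaulay

/-!
# Cohen-Macaulay modules: regular sequences and systems of parameters
-/

universe u v

namespace Groth.Agent.DepthLib

open RingTheory.Sequence Submodule Pointwise
open LocCoh

variable {R : Type u} [CommRing R]

theorem exists_nat_ringKrullDim_quotient [IsLocalRing R] [IsNoetherianRing R] (p : Ideal R) [p.IsPrime] :
    ∃ n : ℕ, ringKrullDim (R ⧸ p) = n := by
  obtain ⟨d, hd⟩ := WithBot.ne_bot_iff_exists.mp
    (ne_bot_of_le_ne_bot (by simp) (ringKrullDim_nonneg_of_nontrivial (R := R ⧸ p)) :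
      ringKrullDim (R ⧸ p) ≠ ⊥)
  obtain ⟨n, rfl⟩ := WithTop.ne_top_iff_exists.mp
    (fun h => ringKrullDim_quotient_ne_top p (by rw [← hd, h]; rfl) : d ≠ ⊤)
  exact ⟨n, hd.symm⟩

theorem withBot_le_of_add_one_le {a b : WithBot ℕ∞} (h : a + 1 ≤ b + 1) : a ≤ b := by
  induction a <;> induction b <;>
    simp_all [← WithBot.coe_one, ← WithBot.coe_add, ENat.add_le_add_iff_right ENat.one_ne_top]

theorem exists_nat_supportDim [IsLocalRing R] [IsNoetherianRing R] (M : Type v) [AddCommGroup M]
    [Module R M] [Nontrivial M] : ∃ n : ℕ, Module.supportDim R M = n := by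
  obtain ⟨d, hd⟩ := WithBot.ne_bot_iff_exists.mp (Module.supportDim_ne_bot_of_nontrivial R M)
  obtain ⟨n, rfl⟩ := WithTop.ne_top_iff_exists.mp (fun h =>
    ((Module.supportDim_le_ringKrullDim R M).trans_lt ringKrullDim_lt_top).ne (by rw [← hd, h]; rfl) : d ≠ ⊤)
  exact ⟨n, hd.symm⟩

theorem exists_nat_depth [IsLocalRing R] [IsNoetherianRing R] (M : Type v) [AddCommGroup M]
    [Module R M] [Module.Finite R M] [Nontrivial M] : ∃ n : ℕ, depth R M = n := by
  obtain ⟨n, hn⟩ := WithTop.ne_top_iff_exists.mp (depth_ne_top (R := R) M)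
  exact ⟨n, hn.symm⟩

variable {M : Type v} [AddCommGroup M] [Module R M]

theorem ringKrullDim_quotient_le_supportDim (p : PrimeSpectrum R) (hp : p ∈ Module.support R M) :
    ringKrullDim (R ⧸ p.asIdeal) ≤ Module.supportDim R M := by
  rw [ringKrullDim_quotient]
  exact Order.krullDim_le_of_strictMono (fun q => ⟨q.1, Module.mem_support_mono q.2 hp⟩)
    (fun _ _ h => h)

theorem supportDim_quotient_smul_top_of_mem_support [Module.Finite R M] (p : PrimeSpectrum R)
    (hp : p ∈ Module.support R M) :
    Module.supportDim R (M ⧸ p.asIdeal • (⊤ : Submodule R M)) = ringKrullDim (R ⧸ p.asIdeal) := by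
  have h : Module.support R (M ⧸ p.asIdeal • (⊤ : Submodule R M)) =
      PrimeSpectrum.zeroLocus (p.asIdeal : Set R) := by
    rw [Module.support_quotient, Set.inter_eq_right]
    exact fun q hq => Module.mem_support_mono (p := p) hq hp
  rw [Module.supportDim, h, ringKrullDim_quotient]

/-- The dimension of the support is attained as some `dim R/q`. -/
theorem exists_mem_support_ringKrullDim_eq [IsLocalRing R] [IsNoetherianRing R] [Nontrivial M] :
    ∃ q ∈ Module.support R M, ringKrullDim (R ⧸ q.asIdeal) = Module.supportDim R M := by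
  obtain ⟨n, hn⟩ := exists_nat_supportDim (R := R) M
  obtain ⟨l, hl⟩ := Order.le_krullDim_iff.mp (show (n : WithBot ℕ∞) ≤
    Order.krullDim (Module.support R M) from hn.ge)
  refine ⟨l.head.1, l.head.2, le_antisymm (ringKrullDim_quotient_le_supportDim _ l.head.2) ?_⟩
  rw [hn, ringKrullDim_quotient]
  refine Order.le_krullDim_iff.mpr ⟨⟨l.length, fun i => ⟨(l i).1, ?_⟩, fun i => l.step i⟩, hl⟩
  exact l.head_le i

theorem supportDim_le_add_length [IsLocalRing R] [IsNoetherianRing R] (rs : List R) :
    ∀ (M : Type v) [AddCommGroup M] [Module R M] [Module.Finite R M],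
      (∀ r ∈ rs, r ∈ IsLocalRing.maximalIdeal R) →
      Module.supportDim R M ≤
        Module.supportDim R (M ⧸ (Ideal.ofList rs • ⊤ : Submodule R M)) + rs.length := by
  induction rs with
  | nil =>
    intro M _ _ _ _
    rw [Module.supportDim_eq_of_equiv
      (Submodule.quotEquivOfEqBot _ (by rw [Ideal.ofList_nil, Submodule.bot_smul]))]
    simp
  | cons x rs ih =>
    intro M _ _ _ hI
    refine (Module.supportDim_le_supportDim_quotSMulTop_succ (hI x (by simp))).trans ?_
    refine (add_le_add (ih (QuotSMulTop x M) fun r hr => hI r (by simp [hr])) le_rfl).trans_eq ?_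
    rw [Module.supportDim_eq_of_equiv (quotOfListConsSMulTopEquivQuotSMulTopInner M x rs),
      List.length_cons, Nat.cast_add, Nat.cast_one, add_assoc]

theorem ringKrullDim_quotient_eq_of_mem_associatedPrimes [IsLocalRing R] [IsNoetherianRing R]
    [Module.Finite R M] (h : IsCohenMacaulayModule R M) {p : Ideal R} (hp : p ∈ associatedPrimes R M) :
    ringKrullDim (R ⧸ p) = Module.supportDim R M :=
  le_antisymm
    (ringKrullDim_quotient_le_supportDim (⟨p, IsAssociatedPrime.isPrime hp⟩ : PrimeSpectrum R)
      (mem_support_of_mem_associatedPrimes hp))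
    ((le_of_eq (h : Module.supportDim R M = _)).trans (depth_le_ringKrullDim_quotient hp))

variable {M : Type u} [AddCommGroup M] [Module R M] [Module.Finite R M] [IsLocalRing R] [IsNoetherianRing R]

theorem isCohenMacaulayModule_quot_ofList (rs : List R) :
    ∀ (M : Type u) [AddCommGroup M] [Module R M] [Module.Finite R M],
      IsCohenMacaulayModule R M → (∀ r ∈ rs, r ∈ IsLocalRing.maximalIdeal R) → IsWeaklyRegular M rs →
      IsCohenMacaulayModule R (M ⧸ (Ideal.ofList rs • ⊤ : Submodule R M)) := by
  induction rs with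
  | nil =>
    intro M _ _ _ h _ _
    exact (isCohenMacaulayModule_congr (Submodule.quotEquivOfEqBot _
      (by rw [Ideal.ofList_nil, Submodule.bot_smul]))).mpr h
  | cons x rs ih =>
    intro M _ _ _ h hI hreg
    rw [isWeaklyRegular_cons_iff] at hreg
    exact (isCohenMacaulayModule_congr (quotOfListConsSMulTopEquivQuotSMulTopInner M x rs)).mpr
      (ih (QuotSMulTop x M) ((isCohenMacaulayModule_quotSMulTop_iff (hI x (by simp)) hreg.1).mpr h)
        (fun r hr => hI r (by simp [hr])) hreg.2)

theorem supportDim_quot_ofList_add_length {rs : List R} (hI : ∀ r ∈ rs, r ∈ IsLocalRing.maximalIdeal R)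
    [Nontrivial M] (h : IsWeaklyRegular M rs) :
    Module.supportDim R (M ⧸ (Ideal.ofList rs • ⊤ : Submodule R M)) + rs.length = Module.supportDim R M :=
  Module.supportDim_add_length_eq_supportDim_of_isRegular rs
    ((IsLocalRing.isRegular_iff_isWeaklyRegular_of_subset_maximalIdeal hI).mpr h)

/-- In a CM module an element dropping the dimension is regular. -/
theorem isSMulRegular_of_supportDim_drop (h : IsCohenMacaulayModule R M) {x : R}
    (hdim : Module.supportDim R (QuotSMulTop x M) + 1 ≤ Module.supportDim R M) : IsSMulRegular M x := by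
  haveI := nontrivial_of_isCohenMacaulayModule h
  by_contra hreg
  have : x ∈ ⋃ q ∈ associatedPrimes R M, (q : Set R) := by
    rw [biUnion_associatedPrimes_eq_compl_regular]; exact hreg
  obtain ⟨q, hq, hxq⟩ := Set.mem_iUnion₂.mp this
  have hmem : (⟨q, IsAssociatedPrime.isPrime hq⟩ : PrimeSpectrum R) ∈ Module.support R (QuotSMulTop x M) := by
    rw [Module.support_quotSMulTop]
    exact ⟨mem_support_of_mem_associatedPrimes hq, by simpa [PrimeSpectrum.mem_zeroLocus] using hxq⟩
  have h1 := ringKrullDim_quotient_le_supportDim _ hmem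
  rw [ringKrullDim_quotient_eq_of_mem_associatedPrimes h hq] at h1
  obtain ⟨n, hn⟩ := exists_nat_supportDim (R := R) M
  rw [hn] at h1 hdim
  have h2 := (add_le_add h1 (le_refl (1 : WithBot ℕ∞))).trans hdim
  have h3 : ((n + 1 : ℕ) : WithBot ℕ∞) ≤ (n : WithBot ℕ∞) := by exact_mod_cast h2
  exact absurd (Nat.cast_le.mp h3) (by omega)

/-- A sequence dropping the dimension of a CM module by its length is regular. -/
theorem isWeaklyRegular_of_supportDim_drop (rs : List R) :
    ∀ (M : Type u) [AddCommGroup M] [Module R M] [Module.Finite R M],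
      IsCohenMacaulayModule R M → (∀ r ∈ rs, r ∈ IsLocalRing.maximalIdeal R) →
      Module.supportDim R (M ⧸ (Ideal.ofList rs • ⊤ : Submodule R M)) + rs.length ≤
        Module.supportDim R M → IsWeaklyRegular M rs := by
  induction rs with
  | nil => intro M _ _ _ _ _ _; exact .nil R M
  | cons x rs ih =>
    intro M _ _ _ h hI hdim
    have hx : x ∈ IsLocalRing.maximalIdeal R := hI x (by simp)
    have h1 := supportDim_le_add_length rs (QuotSMulTop x M) fun r hr => hI r (by simp [hr])
    rw [Module.supportDim_eq_of_equiv (quotOfListConsSMulTopEquivQuotSMulTopInner M x rs),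
      List.length_cons, Nat.cast_add, Nat.cast_one, ← add_assoc] at hdim
    have hreg := isSMulRegular_of_supportDim_drop h ((add_le_add h1 le_rfl).trans hdim)
    refine (isWeaklyRegular_cons_iff M x rs).mpr ⟨hreg, ih (QuotSMulTop x M)
      ((isCohenMacaulayModule_quotSMulTop_iff hx hreg).mpr h) (fun r hr => hI r (by simp [hr])) ?_⟩
    rw [← Module.supportDim_quotSMulTop_succ_eq_supportDim hreg hx] at hdim
    exact withBot_le_of_add_one_le hdim

/-- `depth_I M = dim M - dim M/IM` for a CM module. -/
theorem supportDim_quotient_add_idealDepth (h : IsCohenMacaulayModule R M) {I : Ideal R} (hI : I ≠ ⊤) :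
    Module.supportDim R (M ⧸ (I • ⊤ : Submodule R M)) + ((idealDepth I M : ℕ∞) : WithBot ℕ∞) =
      Module.supportDim R M := by
  haveI := nontrivial_of_isCohenMacaulayModule h
  have hIM : I • (⊤ : Submodule R M) ≠ ⊤ := fun he => maximalIdeal_smul_top_ne_top (R := R) (M := M)
    (top_le_iff.mp (he.ge.trans (Submodule.smul_mono_left (IsLocalRing.le_maximalIdeal hI))))
  haveI : Nontrivial (M ⧸ (I • ⊤ : Submodule R M)) := Submodule.Quotient.nontrivial_iff.mpr hIM
  obtain ⟨D, hD⟩ := exists_nat_supportDim (R := R) M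
  obtain ⟨e, he⟩ := exists_nat_supportDim (R := R) (M ⧸ (I • ⊤ : Submodule R M))
  obtain ⟨d, hd⟩ := WithTop.ne_top_iff_exists.mp (fun ht => hIM (idealDepth_eq_top_iff.mp ht) :
    idealDepth I M ≠ ⊤)
  have hup : d + e ≤ D := by
    obtain ⟨q, hq, hqd⟩ := exists_mem_support_ringKrullDim_eq (R := R) (M := M ⧸ (I • ⊤ : Submodule R M))
    rw [Module.support_quotient] at hq
    have h1 := idealDepth_le_supportDim_localization q hq.2 hq.1
    have h2 := (add_le_add h1 (le_refl (ringKrullDim (R ⧸ q.asIdeal)))).trans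
      (supportDim_localization_add_le q hq.1)
    rw [hqd, he, hD, ← hd] at h2
    change (d : WithBot ℕ∞) + (e : WithBot ℕ∞) ≤ (D : WithBot ℕ∞) at h2
    exact_mod_cast h2
  have hlow : D ≤ d + e := by
    have hk : ((D - e : ℕ) : ℕ∞) ≤ idealDepth I M := by
      rw [natCast_le_idealDepth_iff_forall_localization]
      intro p _ hIp
      by_cases hp : (⟨p, ‹_›⟩ : PrimeSpectrum R) ∈ Module.support R M
      · obtain ⟨hcm, hsum⟩ := isCohenMacaulayModule_localization h ⟨p, ‹_›⟩ hp
        rw [hcm] at hsum
        obtain ⟨f, hf⟩ := exists_nat_ringKrullDim_quotient p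
        haveI := (nontrivial_localizedModule_iff (M := M) (⟨p, ‹_›⟩ : PrimeSpectrum R)).mpr hp
        obtain ⟨a, ha⟩ := exists_nat_depth (R := Localization.AtPrime p) (LocalizedModule p.primeCompl M)
        have hfe : f ≤ e := by
          have := ringKrullDim_quotient_le_supportDim (M := M ⧸ (I • ⊤ : Submodule R M)) ⟨p, ‹_›⟩
            (by rw [Module.support_quotient]; exact ⟨hp, hIp⟩)
          rw [he, hf] at this
          exact_mod_cast this
        rw [hf, hD, ha] at hsum
        have hs : a + f = D := by exact_mod_cast hsum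
        rw [ha, Nat.cast_le]; omega
      · haveI : Subsingleton (LocalizedModule p.primeCompl M) := by
          rw [← not_nontrivial_iff_subsingleton]
          exact fun hn => hp ((nontrivial_localizedModule_iff (M := M) (⟨p, ‹_›⟩ : PrimeSpectrum R)).mp hn)
        rw [depth_eq_top_of_subsingleton]; exact le_top
    rw [← hd] at hk
    have : D - e ≤ d := Nat.cast_le.mp hk
    omega
  rw [he, hD, ← hd, show D = d + e by omega, add_comm d e]
  push_cast
  rfl

end Groth.Agent.DepthLib
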