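import Groth.Agent.DepthLib.Ext
import Mathlib.RingTheory.Regular.Flat
import Mathlib.RingTheory.KrullDimension.Regular
import Mathlib.RingTheory.KrullDimension.LocalRing
import Mathlib.RingTheory.Localization.Finiteness
import Mathlib.RingTheory.Ideal.AssociatedPrime.Localization
import Mathlib.Algebra.Module.LocalizedModule.Exact
import Mathlib.RingTheory.Localization.Module
import Mathlib.RingTheory.Noetherian.Basic

/-!
# Depth and localisation; depth is at most the dimension of the support
-/

universe u v w

namespace Groth.Agent.DepthLib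

open RingTheory.Sequence Submodule Pointwise
open LocCoh

variable {R : Type u} [CommRing R] {I : Ideal R}

theorem zero_le_supportDim (M : Type v) [AddCommGroup M] [Module R M] [Nontrivial M] :
    0 ≤ Module.supportDim R M :=
  bot_lt_iff_ne_bot.mpr (Module.supportDim_ne_bot_of_nontrivial R M) |> fun h => by
    rcases hd : Module.supportDim R M with _ | d
    · exact absurd hd (Module.supportDim_ne_bot_of_nontrivial R M)
    · exact WithBot.coe_le_coe.mpr zero_le

/-- `depth M ≤ dim Supp M` for a nonzero finite module over a Noetherian local ring. -/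
theorem depth_le_supportDim [IsLocalRing R] [IsNoetherianRing R] (M : Type v) [AddCommGroup M]
    [Module R M] [Module.Finite R M] [Nontrivial M] :
    ((depth R M : ℕ∞) : WithBot ℕ∞) ≤ Module.supportDim R M := by
  rcases hd : Module.supportDim R M with _ | d
  · exact absurd hd (Module.supportDim_ne_bot_of_nontrivial R M)
  refine WithBot.coe_le_coe.mpr ((idealDepth_le_iff maximalIdeal_smul_top_ne_top).mpr fun rs hrs hI => ?_)
  have hreg : IsRegular M rs :=
    (IsLocalRing.isRegular_iff_isWeaklyRegular_of_subset_maximalIdeal hI).mpr hrs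
  haveI : Nontrivial (M ⧸ Ideal.ofList rs • (⊤ : Submodule R M)) :=
    Submodule.Quotient.nontrivial_iff.mpr hreg.top_ne_smul.symm
  have h := Module.supportDim_add_length_eq_supportDim_of_isRegular rs hreg
  rw [← WithBot.coe_le_coe (α := ℕ∞)]
  refine le_trans ?_ hd.le
  calc ((rs.length : ℕ∞) : WithBot ℕ∞)
      = 0 + ((rs.length : ℕ∞) : WithBot ℕ∞) := (zero_add _).symm
    _ ≤ Module.supportDim R (M ⧸ Ideal.ofList rs • (⊤ : Submodule R M)) + (rs.length : WithBot ℕ∞) :=
        add_le_add (zero_le_supportDim _) le_rfl
    _ = Module.supportDim R M := h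

theorem depth_ne_top [IsLocalRing R] [IsNoetherianRing R] (M : Type v) [AddCommGroup M]
    [Module R M] [Module.Finite R M] [Nontrivial M] : depth R M ≠ ⊤ := by
  intro h
  have h1 := (depth_le_supportDim (R := R) M).trans (Module.supportDim_le_ringKrullDim R M)
  rw [h] at h1
  exact (ringKrullDim_lt_top (R := R)).not_ge h1

variable {M : Type v} [AddCommGroup M] [Module R M]

/-- Depth does not decrease under localisation at a prime containing the ideal. -/
theorem idealDepth_le_depth_localization [IsNoetherianRing R] [Module.Finite R M] (p : Ideal R)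
    [p.IsPrime] (hIp : I ≤ p) :
    idealDepth I M ≤ depth (Localization.AtPrime p) (LocalizedModule p.primeCompl M) := by
  refine ENat.forall_natCast_le_iff_le.mp fun n hn => ?_
  obtain ⟨rs, rfl, hrs, hI⟩ := natCast_le_idealDepth_iff.mp hn
  refine natCast_le_depth_iff.mpr ⟨rs.map (algebraMap R (Localization.AtPrime p)), List.length_map _,
    hrs.of_isLocalizedModule _ p.primeCompl (LocalizedModule.mkLinearMap p.primeCompl M), ?_⟩
  intro r hr
  obtain ⟨a, ha, rfl⟩ := List.mem_map.mp hr
  exact (IsLocalization.AtPrime.to_map_mem_maximal_iff (Localization.AtPrime p) p a).mpr (hIp (hI a ha))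

theorem nontrivial_localizedModule_iff (p : PrimeSpectrum R) :
    Nontrivial (LocalizedModule p.asIdeal.primeCompl M) ↔ p ∈ Module.support R M :=
  Module.mem_support_iff.symm

/-- `depth_I M ≤ dim Supp M_p` for `p ⊇ I` in the support. -/
theorem idealDepth_le_supportDim_localization [IsNoetherianRing R] [Module.Finite R M]
    (p : PrimeSpectrum R) (hIp : I ≤ p.asIdeal) (hp : p ∈ Module.support R M) :
    ((idealDepth I M : ℕ∞) : WithBot ℕ∞) ≤
      Module.supportDim (Localization.AtPrime p.asIdeal) (LocalizedModule p.asIdeal.primeCompl M) :=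
  haveI := (nontrivial_localizedModule_iff p).mpr hp
  (WithBot.coe_le_coe.mpr (idealDepth_le_depth_localization p.asIdeal hIp)).trans
    (depth_le_supportDim _)

theorem exists_mem_support_of_smul_top_ne_top [Module.Finite R M]
    (h : I • (⊤ : Submodule R M) ≠ ⊤) :
    ∃ p : PrimeSpectrum R, I ≤ p.asIdeal ∧ p ∈ Module.support R M := by
  haveI : Nontrivial (M ⧸ I • (⊤ : Submodule R M)) := Submodule.Quotient.nontrivial_iff.mpr h
  obtain ⟨p, hp⟩ := Module.nonempty_support_of_nontrivial (R := R) (M := M ⧸ I • (⊤ : Submodule R M))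
  refine ⟨p, ?_, Module.support_subset_of_surjective _ (Submodule.mkQ_surjective _) hp⟩
  rw [Module.support_eq_zeroLocus] at hp
  refine le_trans (fun a ha => Module.mem_annihilator.mpr fun q => ?_) hp
  obtain ⟨m, rfl⟩ := Submodule.Quotient.mk_surjective _ q
  rw [← Submodule.Quotient.mk_smul, Submodule.Quotient.mk_eq_zero]
  exact Submodule.smul_mem_smul ha trivial

/-- The `I`-depth of a finite module is infinite iff `IM = M`. -/
theorem idealDepth_eq_top_iff [IsNoetherianRing R] [Module.Finite R M] :
    idealDepth I M = ⊤ ↔ I • (⊤ : Submodule R M) = ⊤ := by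
  refine ⟨fun h => ?_, idealDepth_of_smul_top_eq⟩
  by_contra hne
  obtain ⟨p, hIp, hp⟩ := exists_mem_support_of_smul_top_ne_top hne
  haveI := (nontrivial_localizedModule_iff p).mpr hp
  exact depth_ne_top (R := Localization.AtPrime p.asIdeal) (LocalizedModule p.asIdeal.primeCompl M)
    (top_le_iff.mp (h.ge.trans (idealDepth_le_depth_localization p.asIdeal hIp)))

/-- An associated prime gives depth zero after localisation. -/
theorem depth_localization_eq_zero_of_mem_associatedPrimes [IsNoetherianRing R] [Module.Finite R M]
    (p : Ideal R) [p.IsPrime] (hp : p ∈ associatedPrimes R M) :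
    depth (Localization.AtPrime p) (LocalizedModule p.primeCompl M) = 0 :=
  depth_eq_zero_iff.mpr
    (Module.associatedPrimes.mem_associatedPrimes_atPrime_of_mem_associatedPrimes hp)

theorem natCast_le_idealDepth_of_forall_localization_aux [IsNoetherianRing R] (n : ℕ) :
    ∀ (M : Type u) [AddCommGroup M] [Module R M] [Module.Finite R M],
      (∀ (p : Ideal R) [p.IsPrime], I ≤ p →
        (n : ℕ∞) ≤ depth (Localization.AtPrime p) (LocalizedModule p.primeCompl M)) →
      (n : ℕ∞) ≤ idealDepth I M := by
  induction n with
  | zero => intros; simp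
  | succ n ih =>
    intro M _ _ _ h
    obtain ⟨x, hx, hreg⟩ := (one_le_idealDepth_iff (I := I) (M := M)).mp (by
      rw [one_le_idealDepth_iff_forall_associatedPrimes]
      intro p hp hle
      haveI := IsAssociatedPrime.isPrime hp
      have := h p hle
      rw [depth_localization_eq_zero_of_mem_associatedPrimes p hp] at this
      exact absurd this (by exact_mod_cast (Nat.succ_pos n).not_ge))
    refine le_trans ?_ (idealDepth_quotSMulTop_add_one_le hx hreg)
    push_cast
    gcongr
    refine ih (QuotSMulTop x M) fun p _ hle => ?_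
    exact natCast_le_idealDepth_right (f := LocalizedModule.map p.primeCompl (LinearMap.lsmul R M x))
      (g := LocalizedModule.map p.primeCompl (x • (⊤ : Submodule R M)).mkQ)
      (LocalizedModule.map_injective _ _ hreg)
      (LocalizedModule.map_surjective _ _ (Submodule.mkQ_surjective _))
      (LocalizedModule.map_exact _ _ _ (LinearMap.exact_lsmul_mkQ_smul_top M x))
      ((Nat.cast_le.mpr n.le_succ).trans (h p hle)) (h p hle)

/-- A finite module is isomorphic to one in the universe of the ring. -/
theorem exists_linearEquiv_type [Module.Finite R M] :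
    ∃ (M₀ : Type u) (_ : AddCommGroup M₀) (_ : Module R M₀) (_ : Module.Finite R M₀),
      Nonempty (M ≃ₗ[R] M₀) := by
  obtain ⟨k, f, hf⟩ := Module.Finite.exists_fin' R M
  exact ⟨(Fin k → R) ⧸ LinearMap.ker f, inferInstance, inferInstance, inferInstance,
    ⟨(f.quotKerEquivOfSurjective hf).symm⟩⟩

theorem depth_localization_congr {N : Type w} [AddCommGroup N] [Module R N] (e : M ≃ₗ[R] N)
    (p : Ideal R) [p.IsPrime] :
    depth (Localization.AtPrime p) (LocalizedModule p.primeCompl M) =
      depth (Localization.AtPrime p) (LocalizedModule p.primeCompl N) :=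
  depth_congr (LinearEquiv.ofBijective (LocalizedModule.map p.primeCompl e.toLinearMap)
    ⟨LocalizedModule.map_injective _ _ e.injective, LocalizedModule.map_surjective _ _ e.surjective⟩)

/-- `n ≤ depth_I M` iff `n ≤ depth M_p` for all primes `p ⊇ I`. -/
theorem natCast_le_idealDepth_iff_forall_localization [IsNoetherianRing R] [Module.Finite R M] {n : ℕ} :
    (n : ℕ∞) ≤ idealDepth I M ↔ ∀ (p : Ideal R) [p.IsPrime], I ≤ p →
      (n : ℕ∞) ≤ depth (Localization.AtPrime p) (LocalizedModule p.primeCompl M) := by
  refine ⟨fun h p _ hp => h.trans (idealDepth_le_depth_localization p hp), fun h => ?_⟩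
  obtain ⟨M₀, _, _, _, ⟨e⟩⟩ := exists_linearEquiv_type (R := R) (M := M)
  rw [idealDepth_congr e]
  exact natCast_le_idealDepth_of_forall_localization_aux n M₀ fun p _ hp =>
    (h p hp).trans (depth_localization_congr e p).le

theorem idealDepth_eq_iInf [IsNoetherianRing R] [Module.Finite R M] :
    idealDepth I M = ⨅ (p : PrimeSpectrum R) (_ : I ≤ p.asIdeal),
      depth (Localization.AtPrime p.asIdeal) (LocalizedModule p.asIdeal.primeCompl M) := by
  refine enat_eq_of_forall_le fun n => ?_
  rw [natCast_le_idealDepth_iff_forall_localization]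
  simp only [le_iInf_iff]
  exact ⟨fun h p hp => h p.asIdeal hp, fun h p _ hp => h ⟨p, inferInstance⟩ hp⟩

end Groth.Agent.DepthLib
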