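import Groth.Agent.DepthLib.Sequence
import Groth.Agent.DepthLib.Localization
import Mathlib.RingTheory.Flat.FaithfullyFlat.Algebra
import Mathlib.RingTheory.Ideal.KrullsHeightTheorem
import Mathlib.RingTheory.Ideal.GoingDown

/-!
# Depth and height under flat ring maps
-/

universe u

namespace Groth.Agent.DepthLib

open scoped TensorProduct
open LocCoh

variable {A B : Type u} [CommRing A] [CommRing B] [Algebra A B] [IsNoetherianRing A]
  [IsNoetherianRing B] {I : Ideal A} {M : Type u} [AddCommGroup M] [Module A M] [Module.Finite A M]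

theorem idealDepth_le_idealDepth_baseChange [Module.Flat A B] :
    idealDepth I M ≤ idealDepth (I.map (algebraMap A B)) (B ⊗[A] M) := by
  refine ENat.forall_natCast_le_iff_le.mp fun n hn => ?_
  obtain ⟨rs, rfl, hrs, hI⟩ := natCast_le_idealDepth_iff.mp hn
  refine natCast_le_idealDepth_iff.mpr ⟨rs.map (algebraMap A B), List.length_map _,
    hrs.of_flat_of_isBaseChange (TensorProduct.isBaseChange A M B), fun r hr => ?_⟩
  obtain ⟨a, ha, rfl⟩ := List.mem_map.mp hr
  exact Ideal.mem_map_of_mem _ (hI a ha)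

omit [IsNoetherianRing A] [IsNoetherianRing B] [Module.Finite A M] in
/-- If `ker (a ↦ a • x)` extends to a proper ideal of a flat `B`, then `1 ⊗ x ≠ 0`. -/
theorem one_tmul_ne_zero [Module.Flat A B] {x : M}
    (h : Ideal.map (algebraMap A B) (LinearMap.ker (LinearMap.toSpanSingleton A M x)) ≠ ⊤) :
    (1 : B) ⊗ₜ[A] x ≠ 0 := by
  intro h0
  apply h
  set K := LinearMap.ker (LinearMap.toSpanSingleton A M x)
  have hex : Function.Exact K.subtype (LinearMap.toSpanSingleton A M x) :=
    LinearMap.exact_subtype_ker_map _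
  have := (Module.Flat.lTensor_exact B hex ((1 : B) ⊗ₜ[A] (1 : A))).mp (by
    rw [LinearMap.lTensor_tmul, LinearMap.toSpanSingleton_apply, one_smul, h0])
  obtain ⟨t, ht⟩ := this
  have key : ∀ t : B ⊗[A] K, Algebra.TensorProduct.rid A A B (K.subtype.lTensor B t) ∈
      Ideal.map (algebraMap A B) K := by
    intro t
    induction t using TensorProduct.induction_on with
    | zero => simp
    | tmul b k =>
      rw [LinearMap.lTensor_tmul, Algebra.TensorProduct.rid_tmul, Algebra.smul_def]
      exact Ideal.mul_mem_right _ _ (Ideal.mem_map_of_mem _ k.2)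
    | add a b ha hb => rw [map_add, map_add]; exact add_mem ha hb
  rw [Ideal.eq_top_iff_one]
  simpa [ht] using key t

/-- Depth is invariant under flat base change when `V(I)` is in the image. -/
theorem idealDepth_baseChange_eq [Module.Flat A B]
    (hI : ∀ p : Ideal A, p.IsPrime → I ≤ p → (p.map (algebraMap A B)) ≠ ⊤) :
    idealDepth (I.map (algebraMap A B)) (B ⊗[A] M) = idealDepth I M := by
  refine le_antisymm ?_ idealDepth_le_idealDepth_baseChange
  by_cases hIM : I • (⊤ : Submodule A M) = ⊤
  · rw [idealDepth_of_smul_top_eq hIM]; exact le_top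
  obtain ⟨d, hd⟩ := WithTop.ne_top_iff_exists.mp
    (fun ht => hIM (idealDepth_eq_top_iff.mp ht) : idealDepth I M ≠ ⊤)
  obtain ⟨rs, hlen, hrs, hrsI⟩ := natCast_le_idealDepth_iff.mp hd.le
  set J := Ideal.ofList rs
  have h0 : idealDepth I (M ⧸ (J • ⊤ : Submodule A M)) = 0 := by
    have := idealDepth_quot_ofList_add_length rs M hrs hrsI
    rw [← hd, hlen] at this
    exact (ENat.add_left_injective_of_ne_top (ENat.coe_ne_top d)) (this.trans (zero_add _).symm)
  obtain ⟨p, hp, hIp⟩ := idealDepth_eq_zero_iff.mp h0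
  obtain ⟨hprime, z, hz⟩ := isAssociatedPrime_iff.mp hp
  obtain ⟨x, rfl⟩ := Submodule.Quotient.mk_surjective _ z
  have hpz : LinearMap.ker (LinearMap.toSpanSingleton A _
      (Submodule.Quotient.mk x : M ⧸ (J • ⊤ : Submodule A M))) = p := by
    ext a
    rw [hz, LinearMap.mem_ker, LinearMap.toSpanSingleton_apply, Submodule.mem_colon_singleton,
      Submodule.mem_bot]
  have hIx : ∀ a ∈ I, a • x ∈ (J • ⊤ : Submodule A M) := fun a ha => by
    have := hIp ha
    rw [hz, Submodule.mem_colon_singleton, Submodule.mem_bot, ← Submodule.Quotient.mk_smul,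
      Submodule.Quotient.mk_eq_zero] at this
    exact this
  let W : Submodule B (B ⊗[A] M) := Ideal.ofList (rs.map (algebraMap A B)) • ⊤
  have hW : ∀ m ∈ (J • ⊤ : Submodule A M), (1 : B) ⊗ₜ[A] m ∈ W := by
    intro m hm
    refine Submodule.smul_induction_on hm (fun j hj n _ => ?_) (fun a b ha hb => ?_)
    · rw [TensorProduct.tmul_smul, ← algebraMap_smul B j ((1 : B) ⊗ₜ[A] n)]
      refine Submodule.smul_mem_smul ?_ trivial
      rw [← Ideal.map_ofList]
      exact Ideal.mem_map_of_mem _ hj
    · rw [TensorProduct.tmul_add]; exact add_mem ha hb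
  have hker : W ≤ LinearMap.ker ((J • ⊤ : Submodule A M).mkQ.baseChange B) := by
    refine Submodule.smul_le.mpr fun j hj w _ => ?_
    rw [← Ideal.map_ofList] at hj
    rw [LinearMap.mem_ker, map_smul]
    generalize (J • ⊤ : Submodule A M).mkQ.baseChange B w = v
    refine Submodule.span_induction (fun y hy => ?_) (zero_smul _ _) (fun a b _ _ ha hb => by
      rw [add_smul, ha, hb, add_zero]) (fun c a _ ha => by rw [smul_eq_mul, mul_smul, ha, smul_zero]) hj
    obtain ⟨a, ha, rfl⟩ := hy
    induction v using TensorProduct.induction_on with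
    | zero => exact smul_zero _
    | tmul b q =>
      rw [algebraMap_smul, ← TensorProduct.tmul_smul]
      obtain ⟨m, rfl⟩ := Submodule.Quotient.mk_surjective _ q
      rw [← Submodule.Quotient.mk_smul, (Submodule.Quotient.mk_eq_zero _).mpr
        (Submodule.smul_mem_smul ha Submodule.mem_top), TensorProduct.tmul_zero]
    | add v w hv hw => rw [smul_add, hv, hw, add_zero]
  have hne : (Submodule.Quotient.mk ((1 : B) ⊗ₜ[A] x) : (B ⊗[A] M) ⧸ W) ≠ 0 := by
    rw [ne_eq, Submodule.Quotient.mk_eq_zero]
    intro hmem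
    have := LinearMap.mem_ker.mp (hker hmem)
    rw [LinearMap.baseChange_tmul, Submodule.mkQ_apply] at this
    exact one_tmul_ne_zero (by rw [hpz]; exact hI p hprime hIp) this
  haveI : Module.Finite B ((B ⊗[A] M) ⧸ W) := inferInstance
  have h0' : idealDepth (I.map (algebraMap A B)) ((B ⊗[A] M) ⧸ W) = 0 := by
    by_contra hne0
    obtain ⟨y, hy, hyreg⟩ := one_le_idealDepth_iff.mp
      (Order.one_le_iff_pos.mpr (pos_iff_ne_zero.mpr hne0))
    refine hne (hyreg.right_eq_zero_of_smul ?_)
    refine Submodule.span_induction (fun y hy => ?_) (zero_smul _ _) (fun a b _ _ ha hb => by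
      rw [add_smul, ha, hb, add_zero]) (fun c a _ ha => by rw [smul_eq_mul, mul_smul, ha, smul_zero]) hy
    obtain ⟨a, ha, rfl⟩ := hy
    rw [← Submodule.Quotient.mk_smul, Submodule.Quotient.mk_eq_zero, algebraMap_smul,
      ← TensorProduct.tmul_smul]
    exact hW _ (hIx a ha)
  have hdrop := idealDepth_quot_ofList_add_length (I := I.map (algebraMap A B))
    (rs.map (algebraMap A B)) (B ⊗[A] M) (hrs.of_flat_of_isBaseChange (TensorProduct.isBaseChange A M B))
    (fun r hr => by obtain ⟨a, ha, rfl⟩ := List.mem_map.mp hr; exact Ideal.mem_map_of_mem _ (hrsI a ha))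
  rw [h0', zero_add, List.length_map, hlen] at hdrop
  rw [← hdrop, ← hd]
  exact le_rfl

/-- The ring case of `idealDepth_baseChange_eq`. -/
theorem idealDepth_map_eq [Module.Flat A B]
    (hI : ∀ p : Ideal A, p.IsPrime → I ≤ p → (p.map (algebraMap A B)) ≠ ⊤) :
    idealDepth (I.map (algebraMap A B)) B = idealDepth I A := by
  rw [← idealDepth_baseChange_eq (M := A) hI]
  exact (idealDepth_congr (TensorProduct.AlgebraTensorModule.rid A B B)).symm

omit [IsNoetherianRing A] [IsNoetherianRing B] in
theorem map_ne_top_of_exists_comap_eq {p : Ideal A}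
    (h : ∃ q : Ideal B, q.IsPrime ∧ q.comap (algebraMap A B) = p) : p.map (algebraMap A B) ≠ ⊤ := by
  obtain ⟨q, hq, rfl⟩ := h
  exact fun ht => hq.ne_top (top_le_iff.mp (ht.ge.trans Ideal.map_comap_le))

omit [IsNoetherianRing A] [IsNoetherianRing B] in
/-- For a local flat homomorphism every `map` of a prime is proper. -/
theorem map_ne_top_of_isLocalHom [IsLocalRing A] [IsLocalRing B] [IsLocalHom (algebraMap A B)]
    (p : Ideal A) (hp : p.IsPrime) : p.map (algebraMap A B) ≠ ⊤ :=
  ne_top_of_le_ne_top (IsLocalRing.maximalIdeal.isMaximal B).ne_top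
    ((Ideal.map_mono (IsLocalRing.le_maximalIdeal hp.ne_top)).trans
      (((IsLocalRing.local_hom_TFAE (algebraMap A B)).out 0 2 rfl rfl).mp ‹_›))

/-- A prime minimal over `pB` has the height of `p` (flat case). -/
theorem height_eq_of_mem_minimalPrimes_map [Module.Flat A B] (p : Ideal A) [p.IsPrime] (q : Ideal B)
    (hq : q ∈ (p.map (algebraMap A B)).minimalPrimes) [q.LiesOver p] : q.height = p.height := by
  haveI := hq.isPrime
  rw [Ideal.height_eq_height_add_of_liesOver_of_hasGoingDown p q]
  have hle : RingHom.ker (Ideal.Quotient.mk (p.map (algebraMap A B))) ≤ q := by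
    rw [Ideal.mk_ker]; exact hq.le
  haveI := Ideal.map_isPrime_of_surjective Ideal.Quotient.mk_surjective hle
  have : (q.map (Ideal.Quotient.mk (p.map (algebraMap A B)))).height = 0 := by
    rw [Ideal.height_eq_zero_iff]
    refine ⟨⟨inferInstance, bot_le⟩, fun r ⟨hr, _⟩ hrq => ?_⟩
    rw [Ideal.map_le_iff_le_comap]
    refine hq.2 ⟨hr.comap _, ?_⟩ ((Ideal.comap_mono hrq).trans ?_)
    · exact le_trans (le_of_eq (Ideal.mk_ker).symm) (Ideal.comap_mono bot_le)
    · rw [Ideal.comap_map_of_surjective _ Ideal.Quotient.mk_surjective]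
      exact sup_le le_rfl hle
  rw [this, add_zero]

omit [IsNoetherianRing A] [IsNoetherianRing B] in
/-- Minimal primes over `pB` below a prime over `p` lie over `p`. -/
theorem liesOver_of_mem_minimalPrimes_map {p : Ideal A} [p.IsPrime] {q q' : Ideal B}
    (hq : q ∈ (p.map (algebraMap A B)).minimalPrimes) (hle : q ≤ q')
    (hq' : q'.comap (algebraMap A B) = p) : q.LiesOver p :=
  ⟨le_antisymm (Ideal.map_le_iff_le_comap.mp hq.le) ((Ideal.comap_mono hle).trans hq'.le)⟩

/-- In a local ring, the depth with respect to an `m`-primary ideal is the depth. -/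
theorem idealDepth_eq_depth_of_radical [IsLocalRing A] (hle : I ≤ IsLocalRing.maximalIdeal A)
    (hrad : ∀ p : Ideal A, p.IsPrime → I ≤ p → p = IsLocalRing.maximalIdeal A) :
    idealDepth I M = depth A M := by
  refine enat_eq_of_forall_le fun n => ?_
  rw [depth, natCast_le_idealDepth_iff_forall_localization,
    natCast_le_idealDepth_iff_forall_localization]
  exact forall_congr' fun p => forall_congr' fun hp =>
    ⟨fun h hp' => h (hle.trans hp'), fun h hp' => h (hrad p hp hp').ge⟩

end Groth.Agent.DepthLib
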