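import Groth.Agent.DepthLib.RegularLocal
import Mathlib.RingTheory.LocalRing.MaximalIdeal.Basic
import Mathlib.RingTheory.LocalProperties.Reduced

/-!
# Reduced rings and `(R_0) + (S_1)`
-/

universe u

namespace Groth.Agent.DepthLib

open LocCoh

variable {R : Type u} [CommRing R]

theorem isField_of_depth_eq_zero [IsLocalRing R] [IsNoetherianRing R] [IsReduced R]
    (h : depth R R = 0) : IsField R := by
  obtain ⟨hprime, x, hx⟩ := isAssociatedPrime_iff.mp (depth_eq_zero_iff.mp h)
  rw [IsLocalRing.isField_iff_maximalIdeal_eq]
  by_cases hxm : x ∈ IsLocalRing.maximalIdeal R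
  · exfalso
    have h1 : x * x = 0 := by
      rw [hx, Submodule.mem_colon_singleton, Submodule.mem_bot] at hxm
      exact hxm
    refine hprime.ne_top (hx.trans (eq_top_iff.mpr fun a _ => ?_))
    simp [Submodule.mem_colon_singleton, IsReduced.eq_zero x ⟨2, by rw [pow_two, h1]⟩]
  · rw [IsLocalRing.notMem_maximalIdeal] at hxm
    refine eq_bot_iff.mpr fun a ha => ?_
    rw [hx, Submodule.mem_colon_singleton, Submodule.mem_bot, smul_eq_mul] at ha
    exact (hxm.mul_left_eq_zero).mp ha

/-- The localisation of `R` as a module is the localised ring. -/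
noncomputable def localizedSelfEquiv (p : Ideal R) [p.IsPrime] :
    LocalizedModule p.primeCompl R ≃ₗ[Localization.AtPrime p] Localization.AtPrime p :=
  LinearEquiv.extendScalarsOfIsLocalization p.primeCompl (Localization.AtPrime p)
    (IsLocalizedModule.linearEquiv p.primeCompl (LocalizedModule.mkLinearMap p.primeCompl R)
      (Algebra.linearMap R (Localization.AtPrime p)))

theorem depth_localization_self (p : Ideal R) [p.IsPrime] :
    depth (Localization.AtPrime p) (LocalizedModule p.primeCompl R) =
      depth (Localization.AtPrime p) (Localization.AtPrime p) :=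
  depth_congr (localizedSelfEquiv p)

theorem supportDim_localization_self (p : Ideal R) [p.IsPrime] :
    Module.supportDim (Localization.AtPrime p) (LocalizedModule p.primeCompl R) = p.height := by
  rw [Module.supportDim_eq_of_equiv (localizedSelfEquiv p), Module.supportDim_self_eq_ringKrullDim,
    IsLocalization.AtPrime.ringKrullDim_eq_height p]

theorem height_eq_zero_of_isField_localization (p : Ideal R) [p.IsPrime]
    (h : IsField (Localization.AtPrime p)) : p.height = 0 := by
  have := IsLocalization.AtPrime.ringKrullDim_eq_height p (Localization.AtPrime p)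
  rw [ringKrullDim_eq_zero_of_isField h] at this
  exact (WithBot.coe_injective (this : ((0 : ℕ∞) : WithBot ℕ∞) = (p.height : WithBot ℕ∞))).symm

theorem isRegularLocalRing_of_isField [IsLocalRing R] (h : IsField R) : IsRegularLocalRing R := by
  letI := h.toField
  infer_instance

theorem hasRk_zero_of_isReduced [IsNoetherianRing R] [IsReduced R] : HasRk 0 R := by
  intro p _ hp
  haveI : IsReduced (Localization.AtPrime p) := inferInstance
  refine isRegularLocalRing_of_isField (isField_of_depth_eq_zero ?_)
  have h := depth_le_supportDim (R := Localization.AtPrime p) (Localization.AtPrime p)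
  rw [Module.supportDim_self_eq_ringKrullDim,
    IsLocalization.AtPrime.ringKrullDim_eq_height p] at h
  exact le_antisymm ((WithBot.coe_le_coe.mp h).trans hp) bot_le

theorem hasSk_one_of_isReduced [IsNoetherianRing R] [IsReduced R] : HasSk 1 R R := by
  intro p _
  by_cases hd : depth (Localization.AtPrime p) (LocalizedModule p.primeCompl R) = 0
  · refine le_trans (min_le_right _ _) ?_
    rw [hd, supportDim_localization_self, height_eq_zero_of_isField_localization p
      (isField_of_depth_eq_zero ((depth_localization_self p).symm.trans hd))]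
  · exact le_trans (min_le_left _ _) (WithBot.coe_le_coe.mpr
      (by simpa using Order.one_le_iff_pos.mpr (pos_iff_ne_zero.mpr hd)))

theorem isReduced_of_hasRk_zero_of_hasSk_one [IsNoetherianRing R] (h0 : HasRk 0 R)
    (h1 : HasSk 1 R R) : IsReduced R := by
  refine ⟨fun a ha => ?_⟩
  by_contra hne
  obtain ⟨p, hp, hle⟩ := exists_le_isAssociatedPrime_of_isNoetherianRing R a hne
  haveI := IsAssociatedPrime.isPrime hp
  have hmin := hasSk_one_iff_minimalPrimes.mp h1 p hp
  rw [Module.annihilator_eq_bot.mpr ((faithfulSMul_iff_algebraMap_injective R R).mpr fun {a b} h => h)]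
    at hmin
  have hh : p.height = 0 := Ideal.height_eq_zero_iff.mpr hmin
  haveI := h0 p hh.le
  haveI := isDomain_of_isRegularLocalRing (Localization.AtPrime p)
  have h0' : algebraMap R (Localization.AtPrime p) a = 0 :=
    IsReduced.eq_zero _ (ha.map _)
  obtain ⟨⟨t, ht⟩, hta⟩ := (IsLocalization.map_eq_zero_iff p.primeCompl (Localization.AtPrime p) a).mp h0'
  exact ht (hle (by rw [Submodule.mem_colon_singleton, Submodule.mem_bot]; exact hta))

end Groth.Agent.DepthLib
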