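import Groth.Agent.DepthLib.CohenMacaulay
import Mathlib.RingTheory.RegularLocalRing.Defs

/-!
# Regular local rings are Cohen-Macaulay domains
-/

universe u v

namespace Groth.Agent.DepthLib

open RingTheory.Sequence Submodule Pointwise
open LocCoh

/-- Depth is unchanged along a surjective homomorphism of local rings. -/
theorem depth_eq_of_surjective {R : Type u} [CommRing R] [IsLocalRing R] {S : Type*} [CommRing S]
    [IsLocalRing S] [Algebra R S] {M : Type v} [AddCommGroup M] [Module R M] [Module S M]
    [IsScalarTower R S M] (hsurj : Function.Surjective (algebraMap R S)) :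
    depth S M = depth R M := by
  have hk : RingHom.ker (algebraMap R S) ≤ IsLocalRing.maximalIdeal R :=
    IsLocalRing.le_maximalIdeal (RingHom.ker_ne_top _)
  have h : (IsLocalRing.maximalIdeal R).map (algebraMap R S) = IsLocalRing.maximalIdeal S :=
    IsLocalRing.eq_maximalIdeal (Ideal.IsMaximal.map_of_surjective_of_ker_le hsurj hk)
  rw [depth, depth, ← h, idealDepth_map_of_surjective hsurj]

/-- A minimal generating set may be chosen through any element outside `m²`. -/
theorem exists_span_insert_eq_maximalIdeal {R : Type u} [CommRing R] [IsLocalRing R] [IsNoetherianRing R]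
    {x : R} (hx : x ∈ IsLocalRing.maximalIdeal R) (hx2 : x ∉ IsLocalRing.maximalIdeal R ^ 2) :
    ∃ s : Finset R, s.card + 1 = (IsLocalRing.maximalIdeal R).spanFinrank ∧
      Ideal.span (insert x (s : Set R)) = IsLocalRing.maximalIdeal R := by
  classical
  set m := IsLocalRing.maximalIdeal R
  have hfg : m.FG := IsNoetherian.noetherian m
  let G : Finset R := (Submodule.FG.finite_generators hfg).toFinset
  have hGs : Ideal.span (G : Set R) = m := by simp [G, Ideal.span, Submodule.span_generators]
  have hGc : G.card = m.spanFinrank := by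
    rw [← Submodule.FG.generators_ncard hfg, Set.ncard_eq_toFinset_card _ (Submodule.FG.finite_generators hfg)]
  obtain ⟨c, hc⟩ := Submodule.mem_span_finset'.mp
    (show x ∈ Submodule.span R (G : Set R) by rw [show Submodule.span R (G : Set R) = m from hGs]; exact hx)
  obtain ⟨g₀, hg₀⟩ : ∃ g : G, IsUnit (c g) := by
    by_contra hne
    push Not at hne
    refine hx2 (hc ▸ sum_mem fun g _ => ?_)
    rw [smul_eq_mul, pow_two]
    exact Ideal.mul_mem_mul (hne g) (hGs ▸ Ideal.subset_span g.2)
  refine ⟨G.erase g₀, by rw [Finset.card_erase_of_mem g₀.2, hGc.symm]; have := Finset.card_pos.mpr ⟨_, g₀.2⟩; omega, ?_⟩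
  apply le_antisymm
  · rw [Ideal.span_le]
    intro y hy
    rcases Set.mem_insert_iff.mp hy with rfl | hy
    · exact hx
    · exact hGs ▸ Ideal.subset_span (Finset.mem_of_mem_erase hy)
  · conv_lhs => rw [← hGs]
    rw [Ideal.span_le]
    intro y hy
    by_cases hyg : y = g₀
    · subst hyg
      rw [← Finset.add_sum_erase _ _ (Finset.mem_univ g₀), ← eq_sub_iff_add_eq] at hc
      rw [SetLike.mem_coe, ← Ideal.unit_mul_mem_iff_mem _ hg₀, ← smul_eq_mul, hc]
      refine sub_mem (Ideal.subset_span (Set.mem_insert _ _)) (sum_mem fun g hg => ?_)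
      refine Ideal.mul_mem_left _ _ (Ideal.subset_span (Set.mem_insert_of_mem _ ?_))
      exact Finset.mem_erase.mpr ⟨fun h => (Finset.mem_erase.mp hg).1 (Subtype.ext h), g.2⟩
    · exact Ideal.subset_span (Set.mem_insert_of_mem _ (Finset.mem_erase.mpr ⟨hyg, hy⟩))

/-- In a regular local ring of positive dimension: an element `x` outside `m²` and outside all minimal
primes, with `R/(x)` regular of smaller embedding dimension. -/
theorem exists_regularLocal_quotient {R : Type u} [CommRing R] [IsRegularLocalRing R] {n : ℕ}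
    (hn : (IsLocalRing.maximalIdeal R).spanFinrank = n + 1) :
    ∃ x ∈ IsLocalRing.maximalIdeal R, (∀ p ∈ (⊥ : Ideal R).minimalPrimes, x ∉ p) ∧
      ∃ _ : IsRegularLocalRing (R ⧸ Ideal.span {x}),
        (IsLocalRing.maximalIdeal (R ⧸ Ideal.span {x})).spanFinrank = n := by
  classical
  have hdim : ringKrullDim R = (n + 1 : ℕ) := by
    rw [← IsRegularLocalRing.spanFinrank_maximalIdeal, hn]
  set m := IsLocalRing.maximalIdeal R
  have hnsub : ¬ (m : Set R) ⊆ ⋃ p ∈ insert (m ^ 2) (⊥ : Ideal R).minimalPrimes, (p : Set R) := by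
    intro hsub
    obtain ⟨q, hq, hle⟩ := (Ideal.subset_union_prime_finite
      ((Ideal.finite_minimalPrimes_of_isNoetherianRing R ⊥).insert (m ^ 2)) (m ^ 2) (m ^ 2)
      (f := fun p => p) (fun p hp hne _ => ((Set.mem_insert_iff.mp hp).resolve_left hne).1.1)).mp hsub
    rcases Set.mem_insert_iff.mp hq with rfl | hq
    · have h0 : m = ⊥ := Submodule.eq_bot_of_le_smul_of_le_jacobson_bot m m (IsNoetherian.noetherian m)
        (by rw [smul_eq_mul, ← pow_two]; exact hle) (IsLocalRing.maximalIdeal_le_jacobson _)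
      have : m.spanFinrank = 0 := by rw [h0]; exact Submodule.spanFinrank_bot
      omega
    · have hqm : q = m := le_antisymm (IsLocalRing.le_maximalIdeal hq.1.1.ne_top) hle
      haveI := hq.1.1
      have h0 : q.height = 0 := Ideal.height_eq_zero_iff.mpr hq
      rw [hqm] at h0
      rw [← IsLocalRing.maximalIdeal_height_eq_ringKrullDim, h0] at hdim
      have : (0 : ℕ∞) = ((n + 1 : ℕ) : ℕ∞) := WithBot.coe_injective hdim
      exact absurd (Nat.cast_injective (R := ℕ∞) this) (by omega)
  obtain ⟨x, hx, hxn⟩ := Set.not_subset.mp hnsub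
  simp only [Set.mem_iUnion, not_exists] at hxn
  refine ⟨x, hx, fun p hp h => hxn p (Set.mem_insert_of_mem _ hp) h, ?_⟩
  obtain ⟨s, hscard, hspan⟩ := exists_span_insert_eq_maximalIdeal hx (fun h => hxn _ (Set.mem_insert _ _) h)
  replace hscard : s.card + 1 = n + 1 := hscard.trans hn
  haveI : Nontrivial (R ⧸ Ideal.span {x}) := Ideal.Quotient.nontrivial_iff.mpr
    (ne_top_of_le_ne_top (IsLocalRing.maximalIdeal.isMaximal R).ne_top
      ((Ideal.span_singleton_le_iff_mem _).mpr hx))
  haveI : IsLocalRing (R ⧸ Ideal.span {x}) := IsLocalRing.of_surjective' _ Ideal.Quotient.mk_surjective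
  have hmax : IsLocalRing.maximalIdeal (R ⧸ Ideal.span {x}) =
      Ideal.span ((Ideal.Quotient.mk (Ideal.span {x})) '' (s : Set R)) := by
    have h1 : m.map (Ideal.Quotient.mk (Ideal.span {x})) = IsLocalRing.maximalIdeal (R ⧸ Ideal.span {x}) :=
      IsLocalRing.eq_maximalIdeal (Ideal.IsMaximal.map_of_surjective_of_ker_le Ideal.Quotient.mk_surjective
        (by rw [Ideal.mk_ker]; exact (Ideal.span_singleton_le_iff_mem _).mpr hx))
    rw [← h1, show m = Ideal.span (insert x (s : Set R)) from hspan.symm, Ideal.map_span, Set.image_insert_eq,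
      Ideal.Quotient.eq_zero_iff_mem.mpr (Ideal.mem_span_singleton_self x)]
    exact Submodule.span_insert_zero
  have hle : (IsLocalRing.maximalIdeal (R ⧸ Ideal.span {x})).spanFinrank ≤ n := by
    rw [hmax]
    refine (Submodule.spanFinrank_span_le_ncard_of_finite (s.finite_toSet.image _)).trans ?_
    refine (Set.ncard_image_le s.finite_toSet).trans ?_
    rw [Set.ncard_coe_finset]; omega
  have hdimq : (n : WithBot ℕ∞) ≤ ringKrullDim (R ⧸ Ideal.span {x}) := by
    have h := ringKrullDim_le_ringKrullDim_quotient_add_card ({x} : Finset R)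
      (by
        rw [IsLocalRing.ringJacobson_eq_maximalIdeal, Finset.coe_singleton, Set.singleton_subset_iff]
        exact hx)
    rw [hdim, Finset.coe_singleton, Finset.card_singleton] at h
    push_cast at h
    rcases hd : ringKrullDim (R ⧸ Ideal.span {x}) with _ | d
    · exact absurd hd (ne_bot_of_le_ne_bot (by simp) (ringKrullDim_nonneg_of_nontrivial (R := R ⧸ Ideal.span {x})))
    · rw [hd] at h
      have h' : ((n : ℕ∞) + 1) ≤ d + 1 := WithBot.coe_le_coe.mp h
      exact WithBot.coe_le_coe.mpr ((ENat.add_le_add_iff_right ENat.one_ne_top).mp h')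
  have hreg : IsRegularLocalRing (R ⧸ Ideal.span {x}) :=
    IsRegularLocalRing.of_spanFinrank_maximalIdeal_le _ (le_trans (by exact_mod_cast hle) hdimq)
  refine ⟨hreg, le_antisymm hle ?_⟩
  rw [← hreg.spanFinrank_maximalIdeal] at hdimq
  exact_mod_cast hdimq

theorem regularLocal_aux (n : ℕ) : ∀ (R : Type u) [CommRing R] [IsRegularLocalRing R],
    (IsLocalRing.maximalIdeal R).spanFinrank = n → IsDomain R ∧ IsCohenMacaulayLocalRing R := by
  induction n with
  | zero =>
    intro R _ _ hn
    have hdim : ringKrullDim R = 0 := by rw [← IsRegularLocalRing.spanFinrank_maximalIdeal, hn]; rfl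
    rw [Submodule.spanFinrank_eq_zero_iff_eq_bot (IsNoetherian.noetherian _)] at hn
    refine ⟨(IsLocalRing.isField_iff_maximalIdeal_eq.mpr hn).isDomain, ?_⟩
    rw [isCohenMacaulayLocalRing_iff, hdim]
    exact WithBot.coe_le_coe.mpr bot_le
  | succ n ih =>
    intro R _ _ hn
    obtain ⟨x, hx, hxmin, hreg, hnq⟩ := exists_regularLocal_quotient hn
    obtain ⟨hdom, hcm⟩ := ih (R ⧸ Ideal.span {x}) hnq
    haveI hP : (Ideal.span {x}).IsPrime := (Ideal.Quotient.isDomain_iff_prime _).mp hdom
    obtain ⟨q, hq, hqle⟩ := Ideal.exists_minimalPrimes_le (I := (⊥ : Ideal R)) (J := Ideal.span {x}) bot_le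
    have hq0 : q = ⊥ := by
      refine Submodule.eq_bot_of_le_smul_of_le_jacobson_bot (Ideal.span {x}) q (IsNoetherian.noetherian q)
        ?_ (((Ideal.span_singleton_le_iff_mem _).mpr hx).trans (IsLocalRing.maximalIdeal_le_jacobson _))
      intro y hy
      obtain ⟨a, rfl⟩ := Ideal.mem_span_singleton'.mp (hqle hy)
      rw [smul_eq_mul, mul_comm a x]
      exact Ideal.mul_mem_mul (Ideal.mem_span_singleton_self x)
        ((hq.1.1.mem_or_mem hy).resolve_right (hxmin q hq))
    haveI hdomR : IsDomain R := by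
      haveI := hq.1.1
      subst hq0
      exact IsDomain.of_bot_isPrime R
    refine ⟨hdomR, ?_⟩
    have hx0 : x ≠ 0 := fun h => hxmin q hq (by rw [h]; exact q.zero_mem)
    have hxreg : IsSMulRegular R x := fun a b h => mul_left_cancel₀ hx0 h
    have e : QuotSMulTop x R ≃ₗ[R] R ⧸ Ideal.span {x} := Submodule.quotEquivOfEq _ _ (by
      rw [← Submodule.ideal_span_singleton_smul, smul_eq_mul, Ideal.mul_top])
    rw [isCohenMacaulayLocalRing_iff, show depth R R = depth R (QuotSMulTop x R) + 1 from
        (idealDepth_quotSMulTop_add_one hx hxreg).symm, depth_congr e,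
      ← depth_eq_of_surjective (S := R ⧸ Ideal.span {x}) Ideal.Quotient.mk_surjective, WithBot.coe_add,
      ← ringKrullDim_eq_depth,
      ← ringKrullDim_quotient_span_singleton_succ_eq_ringKrullDim hxreg hx]
    rfl

theorem isDomain_of_isRegularLocalRing (R : Type u) [CommRing R] [IsRegularLocalRing R] : IsDomain R :=
  (regularLocal_aux _ R rfl).1

theorem isCohenMacaulayLocalRing_of_isRegularLocalRing (R : Type u) [CommRing R] [IsRegularLocalRing R] :
    IsCohenMacaulayLocalRing R :=
  (regularLocal_aux _ R rfl).2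

end Groth.Agent.DepthLib
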