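import Groth.Agent.DepthLib.RegularLocal
import Mathlib.RingTheory.IntegralClosure.IsIntegral.AlmostIntegral
import Mathlib.RingTheory.IntegralClosure.IntegrallyClosed
import Mathlib.RingTheory.Filtration

/-!
# Regular local rings are integrally closed
-/

universe u

namespace Groth.Agent.DepthLib

/-- Complete integral closedness, inside the ring. -/
def IsCIC (A : Type u) [CommRing A] : Prop :=
  ∀ y z c : A, z ≠ 0 → c ≠ 0 → (∀ n : ℕ, z ^ n ∣ c * y ^ n) → z ∣ y

variable {A : Type u} [CommRing A] [IsDomain A] [IsNoetherianRing A]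

theorem isIntegrallyClosed_iff_isCIC : IsIntegrallyClosed A ↔ IsCIC A := by
  have halg : ∀ {y z : A}, z ≠ 0 → ∀ n, algebraMap A (FractionRing A) z ^ n *
      (algebraMap A (FractionRing A) y / algebraMap A (FractionRing A) z) ^ n =
      algebraMap A (FractionRing A) y ^ n := fun {y z} hz n => by
    rw [← mul_pow, mul_div_cancel₀ _ ((map_ne_zero_iff _ (IsFractionRing.injective A _)).mpr hz)]
  constructor
  · intro h y z c hz hc hdvd
    set q := algebraMap A (FractionRing A) y / algebraMap A (FractionRing A) z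
    have hint : IsIntegral A q := IsAlmostIntegral.isIntegral ⟨c, mem_nonZeroDivisors_of_ne_zero hc, fun n => by
      obtain ⟨w, hw⟩ := hdvd n
      refine ⟨w, ?_⟩
      refine mul_left_cancel₀ (pow_ne_zero n ((map_ne_zero_iff _ (IsFractionRing.injective A (FractionRing A))).mpr hz)) ?_
      rw [Algebra.smul_def, mul_left_comm _ _ (q ^ n), halg hz, ← map_pow, ← map_pow, ← map_mul, ← map_mul, hw]⟩
    obtain ⟨a, ha⟩ := (isIntegrallyClosed_iff (FractionRing A)).mp h hint
    refine ⟨a, IsFractionRing.injective A (FractionRing A) ?_⟩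
    rw [map_mul, ha, mul_div_cancel₀ _ ((map_ne_zero_iff _ (IsFractionRing.injective A _)).mpr hz)]
  · intro h
    rw [isIntegrallyClosed_iff (FractionRing A)]
    intro x hx
    obtain ⟨c, hc, hcx⟩ := hx.isAlmostIntegral
    obtain ⟨y, z, hz, rfl⟩ := IsFractionRing.div_surjective (A := A) x
    have hz0 := nonZeroDivisors.ne_zero hz
    obtain ⟨a, ha⟩ := h y z c hz0 (nonZeroDivisors.ne_zero hc) fun n => by
      obtain ⟨w, hw⟩ := hcx n
      refine ⟨w, IsFractionRing.injective A (FractionRing A) ?_⟩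
      rw [map_mul, map_mul, hw, map_pow, map_pow, Algebra.smul_def, mul_left_comm, halg hz0]
    refine ⟨a, ?_⟩
    rw [ha, map_mul, mul_div_cancel_left₀ _ ((map_ne_zero_iff _ (IsFractionRing.injective A _)).mpr hz0)]

theorem exists_notDvd_factor {x : A} (hx : Prime x) {c : A} (hc : c ≠ 0) :
    ∃ (e : ℕ) (c' : A), ¬ x ∣ c' ∧ c = x ^ e * c' := by
  obtain ⟨e, c', hc', h⟩ := WfDvdMonoid.max_power_factor hc hx.irreducible
  exact ⟨e, c', hc', h⟩

/-- If `x` is prime, in the Jacobson radical, and `A/xA` is completely integrally closed, so is `A`. -/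
theorem isCIC_of_prime {x : A} (hx : Prime x) (hjac : x ∈ (⊥ : Ideal A).jacobson)
    (hq : IsCIC (A ⧸ Ideal.span {x})) : IsCIC A := by
  have hmk : ∀ a, Ideal.Quotient.mk (Ideal.span {x}) a = 0 ↔ x ∣ a := fun a =>
    Ideal.Quotient.eq_zero_iff_mem.trans Ideal.mem_span_singleton
  have key : ∀ k : ℕ, ∀ y z c : A, ¬ x ∣ z → c ≠ 0 → (∀ n : ℕ, z ^ n ∣ c * y ^ n) →
      ∃ a, x ^ k ∣ y - a * z := by
    intro k
    induction k with
    | zero => exact fun y z c _ _ _ => ⟨0, by simp⟩
    | succ k ih =>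
      intro y z c hz hc hdvd
      obtain ⟨e, c', hc', hcc⟩ := exists_notDvd_factor hx hc
      have hzx : ∀ (m n : ℕ) (w : A), z ^ n ∣ x ^ m * w → z ^ n ∣ w := by
        intro m n w ⟨v, hv⟩
        obtain ⟨v', hv'⟩ := hx.pow_dvd_of_dvd_mul_left m (fun h => hz (hx.dvd_of_dvd_pow h))
          (hv ▸ dvd_mul_right (x ^ m) w)
        refine ⟨v', mul_left_cancel₀ (pow_ne_zero m hx.ne_zero) ?_⟩
        rw [hv, hv']; ring
      have hc'dvd : ∀ n, z ^ n ∣ c' * y ^ n := fun n =>
        hzx e n _ (by rw [← mul_assoc, ← hcc]; exact hdvd n)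
      obtain ⟨t, ht⟩ := hq (Ideal.Quotient.mk _ y) (Ideal.Quotient.mk _ z) (Ideal.Quotient.mk _ c')
        (fun h => hz ((hmk z).mp h)) (fun h => hc' ((hmk c').mp h)) fun n => by
          rw [← map_pow, ← map_pow, ← map_mul]
          exact map_dvd _ (hc'dvd n)
      obtain ⟨a, rfl⟩ := Ideal.Quotient.mk_surjective t
      rw [← map_mul, Ideal.Quotient.eq, Ideal.mem_span_singleton] at ht
      obtain ⟨b, hb⟩ := ht
      have hbdvd : ∀ n, z ^ n ∣ c' * b ^ n := fun n => by
        refine hzx n n _ ?_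
        rw [show x ^ n * (c' * b ^ n) = c' * (y + -(z * a)) ^ n by
          rw [← sub_eq_add_neg, hb, mul_pow]; ring, add_pow, Finset.mul_sum]
        refine Finset.dvd_sum fun i hi => ?_
        have h1 : z ^ i ∣ c' * y ^ i := hc'dvd i
        have h2 : z ^ (n - i) ∣ (-(z * a)) ^ (n - i) := pow_dvd_pow_of_dvd (dvd_neg.mpr (dvd_mul_right z a)) _
        have h3 := mul_dvd_mul h1 h2
        rw [← pow_add, Nat.add_sub_cancel' (Nat.lt_succ_iff.mp (Finset.mem_range.mp hi))] at h3
        rw [← mul_assoc, ← mul_assoc]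
        exact h3.mul_right _
      obtain ⟨a', w, hw⟩ := ih b z c' hz (fun h => hc' (h ▸ dvd_zero x)) hbdvd
      exact ⟨a + x * a', w, by rw [pow_succ', mul_assoc, ← hw]; linear_combination hb⟩
  have hnd : ∀ y z c : A, ¬ x ∣ z → c ≠ 0 → (∀ n : ℕ, z ^ n ∣ c * y ^ n) → z ∣ y := by
    intro y z c hz hc hdvd
    rw [← Ideal.mem_span_singleton, ← Ideal.Quotient.eq_zero_iff_mem]
    have hle : Ideal.span {x} ≤ (⊥ : Ideal A).jacobson := (Ideal.span_singleton_le_iff_mem _).mpr hjac
    have hmem : Ideal.Quotient.mk (Ideal.span {z}) y ∈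
        (⨅ k : ℕ, Ideal.span {x} ^ k • ⊤ : Submodule A (A ⧸ Ideal.span {z})) := by
      rw [Submodule.mem_iInf]
      intro k
      obtain ⟨a, w, hw⟩ := key k y z c hz hc hdvd
      rw [show Ideal.Quotient.mk (Ideal.span {z}) y = (x ^ k) • Ideal.Quotient.mk (Ideal.span {z}) w by
        rw [Algebra.smul_def, Ideal.Quotient.algebraMap_eq, ← map_mul, ← hw, map_sub,
          map_mul _ a, Ideal.Quotient.eq_zero_iff_mem.mpr (Ideal.mem_span_singleton_self z), mul_zero, sub_zero]]
      exact Submodule.smul_mem_smul (Ideal.pow_mem_pow (Ideal.mem_span_singleton_self x) k) trivial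
    rwa [Ideal.iInf_pow_smul_eq_bot_of_le_jacobson _ hle, Submodule.mem_bot] at hmem
  intro y z c hz hc hdvd
  obtain ⟨e, z', hz', rfl⟩ := exists_notDvd_factor hx hz
  induction e generalizing y with
  | zero => simpa using hnd y z' c hz' hc (by simpa using hdvd)
  | succ e ih =>
    obtain ⟨m, c', hc', rfl⟩ := exists_notDvd_factor hx hc
    have hxy : x ∣ y := by
      by_contra hxy
      have h1 : x ^ (m + 1) ∣ x ^ m * c' * y ^ (m + 1) :=
        (pow_dvd_pow_of_dvd ((dvd_pow_self x (Nat.succ_ne_zero e)).mul_right z') _).trans (hdvd (m + 1))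
      rw [pow_succ, mul_assoc, mul_dvd_mul_iff_left (pow_ne_zero m hx.ne_zero)] at h1
      exact (hx.dvd_or_dvd h1).elim hc' fun h => hxy (hx.dvd_of_dvd_pow h)
    obtain ⟨y', rfl⟩ := hxy
    rw [pow_succ', mul_assoc]
    refine mul_dvd_mul_left x (ih y' (mul_ne_zero (pow_ne_zero e hx.ne_zero) (fun h => hz' (h ▸ dvd_zero x))) fun n => ?_)
    have h2 := hdvd n
    rw [pow_succ', mul_assoc x, mul_pow x, mul_pow x, mul_left_comm (x ^ m * c'),
      mul_dvd_mul_iff_left (pow_ne_zero n hx.ne_zero)] at h2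
    exact h2

/-- Regular local rings are completely integrally closed. -/
theorem isCIC_of_isRegularLocalRing (n : ℕ) : ∀ (R : Type u) [CommRing R] [IsRegularLocalRing R],
    (IsLocalRing.maximalIdeal R).spanFinrank = n → IsCIC R := by
  induction n with
  | zero =>
    intro R _ _ hn
    have hbot : IsLocalRing.maximalIdeal R = ⊥ :=
      (Submodule.spanFinrank_eq_zero_iff_eq_bot (IsNoetherian.noetherian _)).mp hn
    letI := (IsLocalRing.isField_iff_maximalIdeal_eq.mpr hbot).toField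
    exact fun y z c hz _ _ => (Ne.isUnit hz).dvd
  | succ n ih =>
    intro R _ _ hn
    haveI := isDomain_of_isRegularLocalRing R
    obtain ⟨x, hxm, hxmin, hreg, hrank⟩ := exists_regularLocal_quotient hn
    have hx0 : x ≠ 0 := fun h =>
      hxmin ⊥ ⟨⟨Ideal.isPrime_bot, le_rfl⟩, fun _ _ _ => bot_le⟩ (h ▸ zero_mem _)
    haveI := isDomain_of_isRegularLocalRing (R ⧸ Ideal.span {x})
    exact isCIC_of_prime ((Ideal.span_singleton_prime hx0).mp ((Ideal.Quotient.isDomain_iff_prime _).mp ‹_›))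
      (IsLocalRing.maximalIdeal_le_jacobson _ hxm) (ih _ hrank)

theorem isIntegrallyClosed_of_isRegularLocalRing (R : Type u) [CommRing R] [IsRegularLocalRing R] :
    IsIntegrallyClosed R :=
  haveI := isDomain_of_isRegularLocalRing R
  isIntegrallyClosed_iff_isCIC.mpr (isCIC_of_isRegularLocalRing _ R rfl)

end Groth.Agent.DepthLib
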