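import Groth.Agent.DepthLib.CMModule
import Groth.Agent.DepthLib.RegularLocal
import Groth.Agent.DepthLib.Reduced
import Mathlib.RingTheory.RegularLocalRing.Polynomial
import Mathlib.RingTheory.Ideal.KrullsHeightTheorem

/-!
# Complete intersections in regular rings are unmixed
-/

universe u

namespace Groth.Agent.DepthLib.CMPoly

open RingTheory.Sequence
open LocCoh

theorem isRegularRing_field (k : Type u) [Field k] : IsRegularRing k where
  isRegularLocalRing_localization p _ := by
    refine isRegularLocalRing_of_isField ?_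
    rw [IsLocalRing.isField_iff_maximalIdeal_eq, ← Localization.AtPrime.map_eq_maximalIdeal]
    exact (Ideal.map_eq_bot_iff_le_ker _).mpr ((Ideal.eq_bot_of_prime p).le.trans bot_le)

theorem le_height_ker_constantCoeff (k : Type u) [Field k] (n : ℕ) :
    (n : ℕ∞) ≤ (RingHom.ker (MvPolynomial.constantCoeff (R := k) (σ := Fin n))).height := by
  classical
  let φ : ℕ → (MvPolynomial (Fin n) k →ₐ[k] MvPolynomial (Fin n) k) := fun i =>
    MvPolynomial.aeval fun j : Fin n => if (j : ℕ) < i then 0 else MvPolynomial.X j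
  haveI : ∀ i, (RingHom.ker (φ i)).IsPrime := fun i => RingHom.ker_isPrime (φ i)
  have hstep : ∀ i, i < n → RingHom.ker (φ i) < RingHom.ker (φ (i + 1)) := by
    intro i hi
    have hc : (φ (i + 1)).comp (φ i) = φ (i + 1) := by
      refine MvPolynomial.algHom_ext fun j => ?_
      simp only [φ, AlgHom.comp_apply, MvPolynomial.aeval_X]
      by_cases h : (j : ℕ) < i
      · simp [h, Nat.lt_succ_of_lt h]
      · simp [h]
    refine SetLike.lt_iff_le_and_exists.mpr ⟨fun x hx => ?_, MvPolynomial.X ⟨i, hi⟩, ?_, ?_⟩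
    · rw [RingHom.mem_ker] at hx ⊢
      rw [← hc, AlgHom.comp_apply, hx, map_zero]
    · simp [φ, RingHom.mem_ker]
    · simp [φ, RingHom.mem_ker, MvPolynomial.X_ne_zero]
  have hle : ∀ i, i ≤ n → (i : ℕ∞) ≤ (RingHom.ker (φ i)).height := by
    intro i
    induction i with
    | zero => simp
    | succ i ih =>
      intro hi
      push_cast
      exact (add_le_add (ih (by omega)) le_rfl).trans
        (Ideal.height_add_one_le_of_lt_of_isPrime (hstep i (by omega)))
  refine (hle n le_rfl).trans (Ideal.height_mono fun x hx => ?_)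
  have hc : MvPolynomial.constantCoeff.comp (φ n).toRingHom =
      MvPolynomial.constantCoeff (R := k) (σ := Fin n) := by
    refine MvPolynomial.ringHom_ext (fun c => ?_) fun j => ?_ <;> simp [φ]
  rw [RingHom.mem_ker, ← hc]
  show MvPolynomial.constantCoeff (φ n x) = 0
  rw [RingHom.mem_ker.mp hx, map_zero]

/-- If `ht (f) = r < ht m` in a regular ring and `m ⊆ rad ((f) : g)` then `((f) : g) ⊄ m`. -/
theorem exists_notMem_mul_mem {S : Type u} [CommRing S] [IsRegularRing S] (m : Ideal S) [m.IsPrime]
    {r : ℕ} (f : Fin r → S) (hfm : ∀ i, f i ∈ m) (hJ : (r : ℕ∞) ≤ (Ideal.span (Set.range f)).height)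
    (hm : (r : ℕ∞) < m.height) {g : S}
    (hle : m ≤ (Submodule.colon (Ideal.span (Set.range f)) {g}).radical) :
    ∃ s, s ∉ m ∧ s * g ∈ Ideal.span (Set.range f) := by
  set J := Ideal.span (Set.range f)
  let A := Localization.AtPrime m
  haveI := isCohenMacaulayLocalRing_of_isRegularLocalRing A
  let rs : List A := List.ofFn fun i => algebraMap S A (f i)
  have hof : Ideal.ofList rs = J.map (algebraMap S A) := by
    rw [Ideal.map_span, ← Set.range_comp, Ideal.ofList]
    congr 1
    ext a; simp [rs, List.mem_ofFn]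
  have hrsm : ∀ a ∈ rs, a ∈ IsLocalRing.maximalIdeal A := by
    intro a ha
    obtain ⟨i, rfl⟩ := List.mem_ofFn.mp ha
    exact (IsLocalization.AtPrime.to_map_mem_maximal_iff A m _).mpr (hfm i)
  have htop : (Ideal.ofList rs • ⊤ : Submodule A A) = Ideal.ofList rs := by
    rw [smul_eq_mul, Ideal.mul_top]
  have hNe : Ideal.ofList rs ≠ ⊤ := ne_top_of_le_ne_top (IsLocalRing.maximalIdeal.isMaximal A).ne_top
    (Ideal.span_le.mpr hrsm)
  haveI : Nontrivial (A ⧸ (Ideal.ofList rs • ⊤ : Submodule A A)) :=
    Submodule.Quotient.nontrivial_iff.mpr (by rw [htop]; exact hNe)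
  obtain ⟨q, hq, hqd⟩ := exists_mem_support_ringKrullDim_eq (R := A) (M := A ⧸ (Ideal.ofList rs • ⊤ : Submodule A A))
  rw [Module.support_quotient] at hq
  have hheight : (r : ℕ∞) ≤ q.asIdeal.height := by
    refine hJ.trans ((Ideal.height_mono (show J ≤ q.asIdeal.comap (algebraMap S A) from
      Ideal.map_le_iff_le_comap.mp (hof ▸ hq.2))).trans_eq ?_)
    exact IsLocalization.height_under m.primeCompl q.asIdeal
  have hsum := supportDim_localization_add_le (R := A) (M := A) q hq.1
  rw [supportDim_localization_self] at hsum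
  have hdrop : Module.supportDim A (A ⧸ (Ideal.ofList rs • ⊤ : Submodule A A)) + rs.length ≤
      Module.supportDim A A := by
    rw [← hqd, List.length_ofFn, add_comm]
    exact (add_le_add (WithBot.coe_le_coe.mpr hheight) le_rfl).trans hsum
  have hreg := isWeaklyRegular_of_supportDim_drop rs A isCohenMacaulayModule_self hrsm hdrop
  have hCM := isCohenMacaulayModule_quot_ofList rs A isCohenMacaulayModule_self hrsm hreg
  have hdim := supportDim_quot_ofList_add_length (M := A) hrsm hreg
  rw [hCM, List.length_ofFn, Module.supportDim_self_eq_ringKrullDim,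
    IsLocalization.AtPrime.ringKrullDim_eq_height m] at hdim
  obtain ⟨y, hy, hyreg⟩ := one_le_idealDepth_iff.mp (Order.one_le_iff_pos.mpr (pos_iff_ne_zero.mpr
    fun h0 : depth A (A ⧸ (Ideal.ofList rs • ⊤ : Submodule A A)) = 0 => by
      rw [h0, WithBot.coe_zero, zero_add] at hdim
      exact hm.ne (WithBot.coe_injective hdim)))
  have hy' : y ∈ ((Submodule.colon J {g}).map (algebraMap S A)).radical := by
    rw [← Localization.AtPrime.map_eq_maximalIdeal] at hy
    exact Ideal.map_radical_le _ (Ideal.map_mono hle hy)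
  obtain ⟨e, he⟩ := hy'
  have hmul : y ^ e * algebraMap S A g ∈ Ideal.ofList rs := by
    have hle' : (Submodule.colon J {g}).map (algebraMap S A) ≤
        Submodule.colon (Ideal.ofList rs) {algebraMap S A g} := Ideal.map_le_iff_le_comap.mpr fun a ha => by
      rw [Ideal.mem_comap, Submodule.mem_colon_singleton, hof, smul_eq_mul, ← map_mul]
      exact Ideal.mem_map_of_mem _ (Submodule.mem_colon_singleton.mp ha)
    exact Submodule.mem_colon_singleton.mp (hle' he)
  have h0 := (hyreg.pow e).right_eq_zero_of_smul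
    (show y ^ e • (Submodule.Quotient.mk (algebraMap S A g) : A ⧸ (Ideal.ofList rs • ⊤ : Submodule A A)) = 0 by
      rw [← Submodule.Quotient.mk_smul, Submodule.Quotient.mk_eq_zero, htop]; exact hmul)
  rw [Submodule.Quotient.mk_eq_zero, htop, hof, IsLocalization.algebraMap_mem_map_algebraMap_iff m.primeCompl] at h0
  obtain ⟨s, hs, hsg⟩ := h0
  exact ⟨s, hs, hsg⟩

end Groth.Agent.DepthLib.CMPoly
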