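import Groth.Prelude.Def_CAlg
import Mathlib.RingTheory.Regular.LinearMap
import Mathlib.RingTheory.Ideal.AssociatedPrime.Finiteness
import Mathlib.RingTheory.Finiteness.Nakayama
import Mathlib.Data.ENat.Basic

/-!
# Basic properties of `LocCoh.idealDepth` and `LocCoh.depth`

Everything here is universe-polymorphic in the module and uses no homological algebra.
-/

universe u v w

namespace Groth.Agent.DepthLib

open RingTheory.Sequence Submodule Pointwise
open LocCoh

variable {R : Type u} [CommRing R] {I J : Ideal R}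
variable {M : Type v} [AddCommGroup M] [Module R M] {N : Type w} [AddCommGroup N] [Module R N]

/-- Two extended naturals with the same natural lower bounds are equal. -/
theorem enat_eq_of_forall_le {a b : ℕ∞} (h : ∀ n : ℕ, (n : ℕ∞) ≤ a ↔ (n : ℕ∞) ≤ b) : a = b :=
  le_antisymm (ENat.forall_natCast_le_iff_le.mp fun n => (h n).mp)
    (ENat.forall_natCast_le_iff_le.mp fun n => (h n).mpr)

theorem idealDepth_of_smul_top_eq (h : I • (⊤ : Submodule R M) = ⊤) : idealDepth I M = ⊤ :=
  if_pos h

theorem idealDepth_eq_iSup (h : I • (⊤ : Submodule R M) ≠ ⊤) :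
    idealDepth I M = ⨆ (rs : List R) (_ : IsWeaklyRegular M rs ∧ ∀ r ∈ rs, r ∈ I),
      (rs.length : ℕ∞) :=
  if_neg h

theorem le_idealDepth_of_isWeaklyRegular (rs : List R) (h : IsWeaklyRegular M rs)
    (hI : ∀ r ∈ rs, r ∈ I) : (rs.length : ℕ∞) ≤ idealDepth I M := by
  by_cases htop : I • (⊤ : Submodule R M) = ⊤
  · rw [idealDepth_of_smul_top_eq htop]; exact le_top
  · rw [idealDepth_eq_iSup htop]
    exact le_iSup₂_of_le rs ⟨h, hI⟩ le_rfl

theorem idealDepth_le_iff (htop : I • (⊤ : Submodule R M) ≠ ⊤) {n : ℕ∞} :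
    idealDepth I M ≤ n ↔
      ∀ rs : List R, IsWeaklyRegular M rs → (∀ r ∈ rs, r ∈ I) → (rs.length : ℕ∞) ≤ n := by
  rw [idealDepth_eq_iSup htop]
  simp

/-- Prefixes of weakly regular sequences are weakly regular. -/
theorem isWeaklyRegular_take {rs : List R} (h : IsWeaklyRegular M rs) (n : ℕ) :
    IsWeaklyRegular M (rs.take n) := by
  rw [← List.take_append_drop n rs] at h
  exact ((isWeaklyRegular_append_iff M _ _).mp h).1

theorem exists_isWeaklyRegular_of_natCast_le_idealDepth (htop : I • (⊤ : Submodule R M) ≠ ⊤) (n : ℕ)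
    (hn : (n : ℕ∞) ≤ idealDepth I M) :
    ∃ rs : List R, rs.length = n ∧ IsWeaklyRegular M rs ∧ ∀ r ∈ rs, r ∈ I := by
  obtain ⟨rs, hlen, hrs, hI⟩ : ∃ rs : List R, n ≤ rs.length ∧ IsWeaklyRegular M rs ∧ ∀ r ∈ rs, r ∈ I := by
    by_contra hne
    push Not at hne
    rcases Nat.eq_zero_or_pos n with rfl | hpos
    · obtain ⟨r, hr, -⟩ := hne [] (Nat.zero_le _) (.nil R M)
      simp at hr
    · have hle : idealDepth I M ≤ ((n - 1 : ℕ) : ℕ∞) := by
        rw [idealDepth_le_iff htop]
        intro rs hrs hI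
        refine Nat.cast_le.mpr (Nat.le_sub_one_of_lt ?_)
        by_contra hlt
        obtain ⟨r, hr, hr'⟩ := hne rs (not_lt.mp hlt) hrs
        exact hr' (hI r hr)
      have := Nat.cast_le.mp (hn.trans hle)
      omega
  exact ⟨rs.take n, by simp [hlen], isWeaklyRegular_take hrs n,
    fun r hr => hI r (List.mem_of_mem_take hr)⟩

/-- If `I • M = M` for a finite module then some element of `I` acts as the identity. -/
theorem exists_mem_smul_eq_self [Module.Finite R M] (h : I • (⊤ : Submodule R M) = ⊤) :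
    ∃ a ∈ I, ∀ m : M, a • m = m := by
  obtain ⟨a, ha, h'⟩ := Submodule.exists_mem_and_smul_eq_self_of_fg_of_le_smul I ⊤
    Module.Finite.fg_top h.ge
  exact ⟨a, ha, fun m => h' m trivial⟩

/-- For a finite module, `n ≤ depth_I M` iff there is a weakly regular sequence of length `n` in `I`. -/
theorem natCast_le_idealDepth_iff [Module.Finite R M] {n : ℕ} :
    (n : ℕ∞) ≤ idealDepth I M ↔
      ∃ rs : List R, rs.length = n ∧ IsWeaklyRegular M rs ∧ ∀ r ∈ rs, r ∈ I := by
  constructor
  · intro h
    by_cases htop : I • (⊤ : Submodule R M) = ⊤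
    · obtain ⟨a, ha, hact⟩ := exists_mem_smul_eq_self htop
      refine ⟨List.replicate n a, List.length_replicate, ⟨fun i hi => ?_⟩,
        fun r hr => (List.eq_of_mem_replicate hr).symm ▸ ha⟩
      intro x y hxy
      obtain ⟨x, rfl⟩ := Submodule.Quotient.mk_surjective _ x
      obtain ⟨y, rfl⟩ := Submodule.Quotient.mk_surjective _ y
      simpa [List.getElem_replicate, ← Submodule.Quotient.mk_smul, hact] using hxy
    · exact exists_isWeaklyRegular_of_natCast_le_idealDepth htop n h
  · rintro ⟨rs, rfl, h1, h2⟩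
    exact le_idealDepth_of_isWeaklyRegular rs h1 h2

theorem natCast_le_depth_iff [IsLocalRing R] [Module.Finite R M] {n : ℕ} :
    (n : ℕ∞) ≤ depth R M ↔ ∃ rs : List R, rs.length = n ∧ IsWeaklyRegular M rs ∧
      ∀ r ∈ rs, r ∈ IsLocalRing.maximalIdeal R :=
  natCast_le_idealDepth_iff

theorem idealDepth_mono (h : I ≤ J) : idealDepth I M ≤ idealDepth J M := by
  by_cases hI : I • (⊤ : Submodule R M) = ⊤
  · rw [idealDepth_of_smul_top_eq hI, idealDepth_of_smul_top_eq]
    exact top_le_iff.mp (hI.ge.trans (Submodule.smul_mono_left h))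
  · rw [idealDepth_le_iff hI]
    exact fun rs hrs hrI => le_idealDepth_of_isWeaklyRegular rs hrs fun r hr => h (hrI r hr)

theorem smul_top_eq_top_congr (e : M ≃ₗ[R] N) :
    I • (⊤ : Submodule R M) = ⊤ ↔ I • (⊤ : Submodule R N) = ⊤ := by
  have h : (I • (⊤ : Submodule R M)).map e.toLinearMap = I • (⊤ : Submodule R N) := by
    rw [Submodule.map_smul'', Submodule.map_top, LinearEquiv.range]
  constructor
  · intro he
    rw [← h, he, Submodule.map_top, LinearEquiv.range]
  · intro he
    refine Submodule.map_injective_of_injective (f := e.toLinearMap) e.injective ?_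
    rw [h, he, Submodule.map_top, LinearEquiv.range]

theorem idealDepth_congr (e : M ≃ₗ[R] N) : idealDepth I M = idealDepth I N := by
  by_cases hI : I • (⊤ : Submodule R M) = ⊤
  · rw [idealDepth_of_smul_top_eq hI, idealDepth_of_smul_top_eq ((smul_top_eq_top_congr e).mp hI)]
  · rw [idealDepth_eq_iSup hI, idealDepth_eq_iSup (mt (smul_top_eq_top_congr e).mpr hI)]
    simp only [e.isWeaklyRegular_congr]

theorem depth_congr [IsLocalRing R] (e : M ≃ₗ[R] N) : depth R M = depth R N :=
  idealDepth_congr e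

theorem idealDepth_eq_top_of_subsingleton [Subsingleton M] : idealDepth I M = ⊤ :=
  idealDepth_of_smul_top_eq (Subsingleton.elim _ _)

theorem depth_eq_top_of_subsingleton [IsLocalRing R] [Subsingleton M] : depth R M = ⊤ :=
  idealDepth_eq_top_of_subsingleton

theorem maximalIdeal_smul_top_ne_top [IsLocalRing R] [Nontrivial M] [Module.Finite R M] :
    IsLocalRing.maximalIdeal R • (⊤ : Submodule R M) ≠ ⊤ :=
  (Submodule.top_ne_ideal_smul_of_le_jacobson_annihilator
    (IsLocalRing.maximalIdeal_le_jacobson _)).symm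

/-- For `x ∈ I`, `I (M/xM) = M/xM` iff `I M = M`. -/
theorem smul_top_quotSMulTop_eq_top_iff {x : R} (hx : x ∈ I) :
    I • (⊤ : Submodule R (QuotSMulTop x M)) = ⊤ ↔ I • (⊤ : Submodule R M) = ⊤ := by
  have h2 : x • (⊤ : Submodule R M) ≤ I • ⊤ := by
    rintro _ ⟨m, -, rfl⟩
    exact Submodule.smul_mem_smul hx trivial
  have h3 : Submodule.comap (Submodule.mkQ (x • (⊤ : Submodule R M))) (I • ⊤) =
      I • (⊤ : Submodule R M) := by
    rw [Submodule.comap_smul_top_of_surjective I _ (Submodule.mkQ_surjective _), Submodule.ker_mkQ,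
      sup_eq_left.mpr h2]
  constructor
  · intro h
    rw [← h3, h, Submodule.comap_top]
  · intro h
    refine Submodule.comap_injective_of_surjective (Submodule.mkQ_surjective _) ?_
    rw [h3, h, Submodule.comap_top]

/-- The easy half of "depth drops by one". -/
theorem idealDepth_quotSMulTop_add_one_le {x : R} (hx : x ∈ I) (hreg : IsSMulRegular M x) :
    idealDepth I (QuotSMulTop x M) + 1 ≤ idealDepth I M := by
  by_cases h : I • (⊤ : Submodule R M) = ⊤
  · rw [idealDepth_of_smul_top_eq h]; exact le_top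
  · have h' := mt (smul_top_quotSMulTop_eq_top_iff hx).mp h
    cases hd : idealDepth I M with
    | top => exact le_top
    | coe n =>
      have hbound : ∀ rs : List R, IsWeaklyRegular (QuotSMulTop x M) rs → (∀ r ∈ rs, r ∈ I) →
          rs.length + 1 ≤ n := by
        intro rs hrs hI
        have hle := le_idealDepth_of_isWeaklyRegular (x :: rs)
          ((isWeaklyRegular_cons_iff M x rs).mpr ⟨hreg, hrs⟩) (List.forall_mem_cons.mpr ⟨hx, hI⟩)
        rw [hd] at hle
        exact_mod_cast hle
      have hn : 1 ≤ n := hbound [] (.nil R _) (by simp)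
      have hle : idealDepth I (QuotSMulTop x M) ≤ ((n - 1 : ℕ) : ℕ∞) := by
        rw [idealDepth_le_iff h']
        intro rs hrs hI
        exact_mod_cast Nat.le_sub_one_of_lt (hbound rs hrs hI)
      calc idealDepth I (QuotSMulTop x M) + 1 ≤ ((n - 1 : ℕ) : ℕ∞) + 1 := add_le_add hle le_rfl
        _ = ((n - 1 + 1 : ℕ) : ℕ∞) := by push_cast; ring
        _ ≤ n := by exact_mod_cast (Nat.sub_add_cancel hn).le

theorem one_le_idealDepth_iff [Module.Finite R M] :
    1 ≤ idealDepth I M ↔ ∃ x ∈ I, IsSMulRegular M x := by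
  rw [← Nat.cast_one, natCast_le_idealDepth_iff]
  constructor
  · rintro ⟨rs, hlen, hrs, hI⟩
    obtain ⟨x, rfl⟩ := List.length_eq_one_iff.mp hlen
    exact ⟨x, hI x (List.mem_singleton_self x), (isWeaklyRegular_singleton_iff M x).mp hrs⟩
  · rintro ⟨x, hx, hreg⟩
    exact ⟨[x], rfl, (isWeaklyRegular_singleton_iff M x).mpr hreg, by simpa⟩

/-- `1 ≤ depth_I M` iff `I` lies in no associated prime. -/
theorem one_le_idealDepth_iff_forall_associatedPrimes [IsNoetherianRing R] [Module.Finite R M] :
    1 ≤ idealDepth I M ↔ ∀ p ∈ associatedPrimes R M, ¬ I ≤ p := by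
  rw [one_le_idealDepth_iff]
  constructor
  · rintro ⟨x, hx, hreg⟩ p hp hle
    have : x ∈ ⋃ q ∈ associatedPrimes R M, (q : Set R) := Set.mem_biUnion hp (hle hx)
    rw [biUnion_associatedPrimes_eq_compl_regular] at this
    exact this hreg
  · intro h
    by_contra hne
    push Not at hne
    rcases subsingleton_or_nontrivial M with hM | hM
    · exact hne 0 I.zero_mem IsSMulRegular.zero
    · obtain ⟨q, hq⟩ := associatedPrimes.nonempty R M
      obtain ⟨p, hp, hle⟩ := (Ideal.subset_union_prime_finite (associatedPrimes.finite R M) q q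
        fun p hp _ _ => IsAssociatedPrime.isPrime hp).mp (show (I : Set R) ⊆
          ⋃ p ∈ associatedPrimes R M, (p : Set R) by
            rw [biUnion_associatedPrimes_eq_compl_regular]
            exact fun r hr => hne r hr)
      exact h p hp hle

theorem idealDepth_eq_zero_iff [IsNoetherianRing R] [Module.Finite R M] :
    idealDepth I M = 0 ↔ ∃ p ∈ associatedPrimes R M, I ≤ p := by
  rw [← not_iff_not, ← ne_eq, ← Order.one_le_iff_pos.trans pos_iff_ne_zero,
    one_le_idealDepth_iff_forall_associatedPrimes]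
  simp

theorem depth_eq_zero_iff [IsLocalRing R] [IsNoetherianRing R] [Module.Finite R M] :
    depth R M = 0 ↔ IsLocalRing.maximalIdeal R ∈ associatedPrimes R M := by
  rw [depth, idealDepth_eq_zero_iff]
  constructor
  · rintro ⟨p, hp, hle⟩
    rwa [(IsLocalRing.maximalIdeal.isMaximal R).eq_of_le (IsAssociatedPrime.isPrime hp).ne_top hle]
  · exact fun h => ⟨_, h, le_rfl⟩

theorem two_le_idealDepth_iff [Module.Finite R M] :
    2 ≤ idealDepth I M ↔
      ∃ x ∈ I, IsSMulRegular M x ∧ ∃ y ∈ I, IsSMulRegular (QuotSMulTop x M) y := by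
  rw [← Nat.cast_two, natCast_le_idealDepth_iff]
  constructor
  · rintro ⟨rs, hlen, hrs, hI⟩
    obtain ⟨x, y, rfl⟩ := List.length_eq_two.mp hlen
    rw [isWeaklyRegular_cons_iff, isWeaklyRegular_singleton_iff] at hrs
    exact ⟨x, hI x (by simp), hrs.1, y, hI y (by simp), hrs.2⟩
  · rintro ⟨x, hx, hreg, y, hy, hreg'⟩
    refine ⟨[x, y], rfl, ?_, by simp [hx, hy]⟩
    rw [isWeaklyRegular_cons_iff, isWeaklyRegular_singleton_iff]
    exact ⟨hreg, hreg'⟩

/-- Invariance under surjective change of rings. -/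
theorem idealDepth_map_of_surjective {S : Type*} [CommRing S] [Algebra R S] [Module S M]
    [IsScalarTower R S M] (hsurj : Function.Surjective (algebraMap R S)) :
    idealDepth (I.map (algebraMap R S)) M = idealDepth I M := by
  have hiff : I.map (algebraMap R S) • (⊤ : Submodule S M) = ⊤ ↔ I • (⊤ : Submodule R M) = ⊤ := by
    rw [← Submodule.restrictScalars_eq_top_iff R, Ideal.smul_restrictScalars,
      Submodule.restrictScalars_top]
  by_cases hI : I • (⊤ : Submodule R M) = ⊤
  · rw [idealDepth_of_smul_top_eq hI, idealDepth_of_smul_top_eq (hiff.mpr hI)]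
  · refine le_antisymm ((idealDepth_le_iff (mt hiff.mp hI)).mpr fun rs hrs hrI => ?_)
      ((idealDepth_le_iff hI).mpr fun rs hrs hrI => ?_)
    · have h' : ∀ r ∈ rs, ∃ r' ∈ I, algebraMap R S r' = r := fun r hr =>
        (Ideal.mem_map_iff_of_surjective _ hsurj).mp (hrI r hr)
      obtain ⟨rs', hrs', hmem⟩ : ∃ rs' : List R, rs'.map (algebraMap R S) = rs ∧ ∀ r ∈ rs', r ∈ I := by
        clear hrs hrI
        induction rs with
        | nil => exact ⟨[], rfl, by simp⟩
        | cons a l ih =>
          obtain ⟨a', ha', rfl⟩ := h' a (by simp)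
          obtain ⟨l', rfl, hl'⟩ := ih fun r hr => h' r (by simp [hr])
          exact ⟨a' :: l', rfl, by simp [ha']; exact hl'⟩
      subst hrs'
      rw [isWeaklyRegular_map_algebraMap_iff] at hrs
      simpa using le_idealDepth_of_isWeaklyRegular rs' hrs hmem
    · have := le_idealDepth_of_isWeaklyRegular (I := I.map (algebraMap R S))
        (rs.map (algebraMap R S)) ((isWeaklyRegular_map_algebraMap_iff S M rs).mpr hrs)
        (fun r hr => by
          obtain ⟨r', hr', rfl⟩ := List.mem_map.mp hr
          exact Ideal.mem_map_of_mem _ (hrI r' hr'))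
      simpa using this

end Groth.Agent.DepthLib
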