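import Groth.Agent.DepthLib.Localization
import Mathlib.RingTheory.Ideal.AssociatedPrime.Localization
import Mathlib.RingTheory.Ideal.MinimalPrime.Basic

/-!
# Serre's condition `(S_1)`, and tools for `(S_k)`
-/

universe u v

namespace Groth.Agent.DepthLib

open RingTheory.Sequence Submodule Pointwise
open LocCoh

variable {R : Type u} [CommRing R] {M : Type v} [AddCommGroup M] [Module R M]

/-- Over a local ring, the support has positive dimension iff it contains a nonmaximal prime. -/
theorem supportDim_pos_iff [IsLocalRing R] [Module.Finite R M] :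
    0 < Module.supportDim R M ↔
      ∃ q ∈ Module.support R M, q.asIdeal ≠ IsLocalRing.maximalIdeal R := by
  rw [Module.supportDim, Order.krullDim_pos_iff]
  constructor
  · rintro ⟨a, b, hab⟩
    refine ⟨a.1, a.2, fun he => ?_⟩
    have h1 : a.1.asIdeal < b.1.asIdeal := hab
    exact h1.not_ge (he ▸ IsLocalRing.le_maximalIdeal b.1.isPrime.ne_top)
  · rintro ⟨q, hq, hne⟩
    haveI : Nontrivial M := Module.nonempty_support_iff.mp ⟨q, hq⟩
    exact ⟨⟨q, hq⟩, ⟨IsLocalRing.closedPoint R, IsLocalRing.closedPoint_mem_support R M⟩,
      lt_of_le_of_ne (IsLocalRing.le_maximalIdeal q.isPrime.ne_top) fun h => hne (congrArg (fun a => a.1.asIdeal) h)⟩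

theorem annihilator_le_of_mem_associatedPrimes {p : Ideal R} (hp : p ∈ associatedPrimes R M) :
    Module.annihilator R M ≤ p :=
  Submodule.annihilator_top.symm.trans_le (IsAssociatedPrime.annihilator_le hp)

theorem mem_support_of_mem_associatedPrimes [Module.Finite R M] {p : Ideal R}
    (hp : p ∈ associatedPrimes R M) :
    (⟨p, IsAssociatedPrime.isPrime hp⟩ : PrimeSpectrum R) ∈ Module.support R M := by
  rw [Module.support_eq_zeroLocus]
  exact annihilator_le_of_mem_associatedPrimes hp

theorem exists_associatedPrime_le_of_mem_support [IsNoetherianRing R] [Module.Finite R M]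
    {q : PrimeSpectrum R} (hq : q ∈ Module.support R M) :
    ∃ p ∈ associatedPrimes R M, p ≤ q.asIdeal := by
  rw [Module.support_eq_zeroLocus] at hq
  obtain ⟨p, hp, hle⟩ := Ideal.exists_minimalPrimes_le (J := q.asIdeal)
    (show Module.annihilator R M ≤ q.asIdeal from hq)
  exact ⟨p, Module.associatedPrimes.minimalPrimes_annihilator_subset_associatedPrimes R M hp, hle⟩

theorem mem_associatedPrimes_localization_iff [IsNoetherianRing R] (p : Ideal R) [p.IsPrime]
    (q : Ideal (Localization.AtPrime p)) :
    q ∈ associatedPrimes (Localization.AtPrime p) (LocalizedModule p.primeCompl M) ↔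
      q.comap (algebraMap R (Localization.AtPrime p)) ∈ associatedPrimes R M := by
  rw [← Module.associatedPrimes.preimage_comap_associatedPrimes_eq_associatedPrimes_of_isLocalizedModule
    p.primeCompl (Localization.AtPrime p) (LocalizedModule.mkLinearMap p.primeCompl M)]
  rfl

/-- Depth zero at `p` iff `p` is an associated prime. -/
theorem depth_localization_eq_zero_iff [IsNoetherianRing R] [Module.Finite R M] (p : Ideal R)
    [p.IsPrime] :
    depth (Localization.AtPrime p) (LocalizedModule p.primeCompl M) = 0 ↔
      p ∈ associatedPrimes R M := by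
  rw [depth_eq_zero_iff, mem_associatedPrimes_localization_iff]
  exact iff_of_eq (congrArg (· ∈ associatedPrimes R M) Localization.AtPrime.under_maximalIdeal)

/-- For an associated prime `p`, `dim Supp M_p > 0` iff `p` is embedded. -/
theorem supportDim_localization_pos_iff [IsNoetherianRing R] [Module.Finite R M] (p : Ideal R)
    [p.IsPrime] :
    0 < Module.supportDim (Localization.AtPrime p) (LocalizedModule p.primeCompl M) ↔
      ∃ q ∈ associatedPrimes R M, q < p := by
  rw [supportDim_pos_iff]
  constructor
  · rintro ⟨q, hq, hne⟩
    obtain ⟨q', hq', hle⟩ := exists_associatedPrime_le_of_mem_support hq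
    have hne' : q' ≠ IsLocalRing.maximalIdeal (Localization.AtPrime p) := fun h =>
      hne (le_antisymm (IsLocalRing.le_maximalIdeal q.isPrime.ne_top) (h ▸ hle))
    haveI := IsAssociatedPrime.isPrime hq'
    refine ⟨_, (mem_associatedPrimes_localization_iff p q').mp hq', lt_of_le_of_ne ?_ ?_⟩
    · exact (Ideal.comap_mono (IsLocalRing.le_maximalIdeal (IsAssociatedPrime.isPrime hq').ne_top)).trans
        Localization.AtPrime.under_maximalIdeal.le
    · intro he
      refine hne' ?_
      rw [← IsLocalization.map_under p.primeCompl (Localization.AtPrime p) q',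
        show q'.under R = p from he,
        Localization.AtPrime.map_eq_maximalIdeal]
  · rintro ⟨q, hq, hlt⟩
    haveI := IsAssociatedPrime.isPrime hq
    have hdisj : Disjoint (p.primeCompl : Set R) (q : Set R) :=
      Set.disjoint_left.mpr fun a ha ha' => ha (hlt.le ha')
    have hcomap : (q.map (algebraMap R (Localization.AtPrime p))).comap
        (algebraMap R (Localization.AtPrime p)) = q :=
      IsLocalization.comap_map_of_isPrime_disjoint p.primeCompl (Localization.AtPrime p) ‹_› hdisj
    have hmem : q.map (algebraMap R (Localization.AtPrime p)) ∈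
        associatedPrimes (Localization.AtPrime p) (LocalizedModule p.primeCompl M) := by
      rw [mem_associatedPrimes_localization_iff, hcomap]
      exact hq
    refine ⟨_, mem_support_of_mem_associatedPrimes hmem, fun h => hlt.ne ?_⟩
    rw [← hcomap, show q.map (algebraMap R (Localization.AtPrime p)) = _ from h]
    exact Localization.AtPrime.under_maximalIdeal

/-- `(S_1)` iff no embedded associated primes. -/
theorem hasSk_one_iff [IsNoetherianRing R] [Module.Finite R M] :
    HasSk 1 R M ↔ ∀ p ∈ associatedPrimes R M, ∀ q ∈ associatedPrimes R M, ¬ q < p := by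
  constructor
  · intro h p hp q hq hlt
    haveI := IsAssociatedPrime.isPrime hp
    have h1 := h p
    rw [(depth_localization_eq_zero_iff p).mpr hp] at h1
    have h2 := (supportDim_localization_pos_iff (M := M) p).mpr ⟨q, hq, hlt⟩
    rcases min_le_iff.mp h1 with h3 | h3
    · exact absurd h3 (by norm_num)
    · exact absurd h3 (not_le.mpr (by simpa using h2))
  · intro h p _
    by_cases hd : depth (Localization.AtPrime p) (LocalizedModule p.primeCompl M) = 0
    · refine le_trans (min_le_right _ _) ?_
      rw [hd]
      refine not_lt.mp fun hpos => ?_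
      obtain ⟨q, hq, hlt⟩ := (supportDim_localization_pos_iff (M := M) p).mp (by simpa using hpos)
      exact h p ((depth_localization_eq_zero_iff p).mp hd) q hq hlt
    · refine le_trans (min_le_left _ _) ?_
      exact WithBot.coe_le_coe.mpr (by simpa using Order.one_le_iff_pos.mpr (pos_iff_ne_zero.mpr hd))

/-- Associated primes of a module with `(S_1)` are minimal over the annihilator, and conversely. -/
theorem hasSk_one_iff_minimalPrimes [IsNoetherianRing R] [Module.Finite R M] :
    HasSk 1 R M ↔ ∀ p ∈ associatedPrimes R M, p ∈ (Module.annihilator R M).minimalPrimes := by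
  rw [hasSk_one_iff]
  constructor
  · intro h p hp
    haveI := IsAssociatedPrime.isPrime hp
    obtain ⟨q, hq, hle⟩ := Ideal.exists_minimalPrimes_le (J := p)
      (annihilator_le_of_mem_associatedPrimes hp)
    rcases hle.eq_or_lt with rfl | hlt
    · exact hq
    · exact absurd hlt (h p hp q
        (Module.associatedPrimes.minimalPrimes_annihilator_subset_associatedPrimes R M hq))
  · intro h p hp q hq hlt
    exact hlt.not_ge ((h p hp).2 ⟨IsAssociatedPrime.isPrime hq, annihilator_le_of_mem_associatedPrimes hq⟩ hlt.le)

/-- Verify `(S_k)` only where the module is nonzero. -/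
theorem hasSk_of_forall_nontrivial {k : ℕ}
    (h : ∀ (p : Ideal R) [p.IsPrime], Nontrivial (LocalizedModule p.primeCompl M) →
      min (k : WithBot ℕ∞) (Module.supportDim (Localization.AtPrime p) (LocalizedModule p.primeCompl M)) ≤
        ((depth (Localization.AtPrime p) (LocalizedModule p.primeCompl M) : ℕ∞) : WithBot ℕ∞)) :
    HasSk k R M := by
  intro p _
  rcases subsingleton_or_nontrivial (LocalizedModule p.primeCompl M) with hs | hn
  · rw [Module.supportDim_eq_bot_of_subsingleton]
    exact (min_le_right _ _).trans bot_le
  · exact h p hn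

end Groth.Agent.DepthLib
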