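import Groth.Agent.DepthLib.Sequence

/-!
# Cohen-Macaulay modules and rings
-/

universe u v

namespace Groth.Agent.DepthLib

open RingTheory.Sequence Submodule Pointwise
open LocCoh

variable {R : Type u} [CommRing R]

theorem isCohenMacaulayModule_iff [IsLocalRing R] [IsNoetherianRing R] {M : Type v} [AddCommGroup M]
    [Module R M] [Module.Finite R M] [Nontrivial M] :
    IsCohenMacaulayModule R M ↔ Module.supportDim R M ≤ ((depth R M : ℕ∞) : WithBot ℕ∞) :=
  ⟨fun h => le_of_eq h, fun h => le_antisymm h (depth_le_supportDim M)⟩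

theorem nontrivial_of_isCohenMacaulayModule [IsLocalRing R] {M : Type v} [AddCommGroup M]
    [Module R M] (h : IsCohenMacaulayModule R M) : Nontrivial M := by
  rw [← Module.supportDim_ne_bot_iff_nontrivial R, h]
  exact WithBot.coe_ne_bot

theorem isCohenMacaulayLocalRing_iff [IsLocalRing R] [IsNoetherianRing R] :
    IsCohenMacaulayLocalRing R ↔ ringKrullDim R ≤ ((depth R R : ℕ∞) : WithBot ℕ∞) := by
  rw [← Module.supportDim_self_eq_ringKrullDim]
  exact ⟨fun h => h.supportDim_eq_depth.le, fun h =>
    { supportDim_eq_depth := le_antisymm h (depth_le_supportDim R) }⟩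

theorem isCohenMacaulayModule_self [IsCohenMacaulayLocalRing R] : IsCohenMacaulayModule R R :=
  IsCohenMacaulayLocalRing.supportDim_eq_depth

theorem ringKrullDim_eq_depth [IsCohenMacaulayLocalRing R] :
    ringKrullDim R = ((depth R R : ℕ∞) : WithBot ℕ∞) :=
  (Module.supportDim_self_eq_ringKrullDim (R := R)).symm.trans IsCohenMacaulayLocalRing.supportDim_eq_depth

theorem withBot_add_one_cancel {a b : WithBot ℕ∞} (h : a + 1 = b + 1) : a = b := by
  induction a <;> induction b <;>
    simp_all [← WithBot.coe_one, ← WithBot.coe_add, ENat.add_left_injective_of_ne_top ENat.one_ne_top |>.eq_iff]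

theorem isCohenMacaulayModule_congr [IsLocalRing R] {M N : Type*} [AddCommGroup M] [Module R M]
    [AddCommGroup N] [Module R N] (e : M ≃ₗ[R] N) :
    IsCohenMacaulayModule R M ↔ IsCohenMacaulayModule R N := by
  rw [IsCohenMacaulayModule, IsCohenMacaulayModule, Module.supportDim_eq_of_equiv e, depth_congr e]

/-- Being Cohen-Macaulay passes to and from the quotient by a regular element of the maximal ideal. -/
theorem isCohenMacaulayModule_quotSMulTop_iff [IsLocalRing R] [IsNoetherianRing R] {M : Type u}
    [AddCommGroup M] [Module R M] [Module.Finite R M] {x : R} (hx : x ∈ IsLocalRing.maximalIdeal R)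
    (hreg : IsSMulRegular M x) :
    IsCohenMacaulayModule R (QuotSMulTop x M) ↔ IsCohenMacaulayModule R M := by
  have hd : depth R (QuotSMulTop x M) + 1 = depth R M := idealDepth_quotSMulTop_add_one hx hreg
  unfold IsCohenMacaulayModule
  rw [← Module.supportDim_quotSMulTop_succ_eq_supportDim hreg hx, ← hd, WithBot.coe_add,
    WithBot.coe_one]
  constructor
  · intro h; rw [h]
  · intro h; exact withBot_add_one_cancel h

/-- A module of dimension zero is Cohen-Macaulay. -/
theorem isCohenMacaulayModule_of_supportDim_eq_zero [IsLocalRing R] [IsNoetherianRing R] {M : Type v}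
    [AddCommGroup M] [Module R M] [Module.Finite R M] (h : Module.supportDim R M = 0) :
    IsCohenMacaulayModule R M := by
  haveI : Nontrivial M := by simp [← Module.supportDim_ne_bot_iff_nontrivial R, h]
  rw [isCohenMacaulayModule_iff, h]
  exact WithBot.coe_le_coe.mpr bot_le

/-- `dim M_p + dim R/p ≤ dim M`. -/
theorem supportDim_localization_add_le [IsNoetherianRing R] {M : Type v} [AddCommGroup M] [Module R M]
    [Module.Finite R M] (p : PrimeSpectrum R) (hp : p ∈ Module.support R M) :
    Module.supportDim (Localization.AtPrime p.asIdeal) (LocalizedModule p.asIdeal.primeCompl M) +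
      ringKrullDim (R ⧸ p.asIdeal) ≤ Module.supportDim R M := by
  let a : Module.support R M := ⟨p, hp⟩
  have h1 : Module.supportDim (Localization.AtPrime p.asIdeal) (LocalizedModule p.asIdeal.primeCompl M) ≤
      Order.height a := by
    rw [Order.height_eq_krullDim_Iic]
    have hmem : ∀ q ∈ Module.support (Localization.AtPrime p.asIdeal) (LocalizedModule p.asIdeal.primeCompl M),
        (⟨q.asIdeal.comap (algebraMap R (Localization.AtPrime p.asIdeal)), inferInstance⟩ : PrimeSpectrum R)
          ∈ Module.support R M := by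
      intro q hq
      obtain ⟨b, hb, hle⟩ := exists_associatedPrime_le_of_mem_support hq
      exact Module.mem_support_mono (p := ⟨_, IsAssociatedPrime.isPrime ((mem_associatedPrimes_localization_iff p.asIdeal b).mp hb)⟩)
        (Ideal.comap_mono hle)
        (mem_support_of_mem_associatedPrimes ((mem_associatedPrimes_localization_iff p.asIdeal b).mp hb))
    refine Order.krullDim_le_of_strictMono (fun q => ⟨⟨_, hmem q.1 q.2⟩, ?_⟩) ?_
    · exact (Ideal.comap_mono (IsLocalRing.le_maximalIdeal q.1.isPrime.ne_top)).trans
        Localization.AtPrime.under_maximalIdeal.le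
    · intro q₁ q₂ hlt
      change q₁.1.asIdeal.comap _ < q₂.1.asIdeal.comap _
      exact (IsLocalization.orderEmbedding p.asIdeal.primeCompl (Localization.AtPrime p.asIdeal)).strictMono
        (show q₁.1.asIdeal < q₂.1.asIdeal from hlt)
  have h2 : ringKrullDim (R ⧸ p.asIdeal) ≤ Order.coheight a := by
    rw [Order.coheight_eq_krullDim_Ici, ringKrullDim_quotient]
    refine Order.krullDim_le_of_strictMono (fun q => ⟨⟨q.1, Module.mem_support_mono (p := p) q.2 hp⟩, q.2⟩)
      (fun _ _ hlt => hlt)
  refine (add_le_add h1 h2).trans ?_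
  haveI : Nonempty (Module.support R M) := ⟨a⟩
  rw [Module.supportDim, Order.krullDim_eq_iSup_height_add_coheight_of_nonempty, ← WithBot.coe_add,
    WithBot.coe_le_coe]
  exact le_iSup (fun a : Module.support R M => Order.height a + Order.coheight a) a

theorem depth_localization_maximalIdeal [IsLocalRing R] [IsNoetherianRing R] {M : Type v}
    [AddCommGroup M] [Module R M] [Module.Finite R M] :
    depth (Localization.AtPrime (IsLocalRing.maximalIdeal R))
      (LocalizedModule (IsLocalRing.maximalIdeal R).primeCompl M) = depth R M := by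
  refine le_antisymm ?_ (idealDepth_le_depth_localization _ le_rfl)
  refine ENat.forall_natCast_le_iff_le.mp fun n hn =>
    natCast_le_idealDepth_iff_forall_localization.mpr fun p hp hle => ?_
  obtain rfl : IsLocalRing.maximalIdeal R = p :=
    (IsLocalRing.maximalIdeal.isMaximal R).eq_of_le hp.ne_top hle
  exact hn

theorem height_maximalIdeal_map_quotient [IsLocalRing R] (p : Ideal R) [p.IsPrime] :
    ((((IsLocalRing.maximalIdeal R).map (Ideal.Quotient.mk p)).height : ℕ∞) : WithBot ℕ∞) =
      ringKrullDim (R ⧸ p) := by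
  haveI : IsLocalRing (R ⧸ p) := IsLocalRing.of_surjective' _ Ideal.Quotient.mk_surjective
  have h : (IsLocalRing.maximalIdeal R).map (Ideal.Quotient.mk p) = IsLocalRing.maximalIdeal (R ⧸ p) := by
    refine IsLocalRing.eq_maximalIdeal (Ideal.IsMaximal.map_of_surjective_of_ker_le
      Ideal.Quotient.mk_surjective ?_)
    rw [Ideal.mk_ker]
    exact IsLocalRing.le_maximalIdeal Ideal.IsPrime.ne_top'
  rw [h, IsLocalRing.maximalIdeal_height_eq_ringKrullDim]

/-- `depth M ≤ depth M_p + dim R/p`. -/
theorem depth_le_depth_localization_add [IsLocalRing R] [IsNoetherianRing R] {M : Type u}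
    [AddCommGroup M] [Module R M] [Module.Finite R M] (p : Ideal R) [p.IsPrime] :
    ((depth R M : ℕ∞) : WithBot ℕ∞) ≤
      ((depth (Localization.AtPrime p) (LocalizedModule p.primeCompl M) : ℕ∞) : WithBot ℕ∞) +
        ringKrullDim (R ⧸ p) := by
  rw [← height_maximalIdeal_map_quotient, ← WithBot.coe_add, WithBot.coe_le_coe,
    ← depth_localization_maximalIdeal]
  exact depth_localization_le_add_height M p _ (IsLocalRing.le_maximalIdeal Ideal.IsPrime.ne_top')

theorem ringKrullDim_quotient_ne_top [IsLocalRing R] [IsNoetherianRing R] (p : Ideal R) :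
    ringKrullDim (R ⧸ p) ≠ ⊤ :=
  ((ringKrullDim_quotient_le p).trans_lt ringKrullDim_lt_top).ne

/-- Localisation of a Cohen-Macaulay module: still Cohen-Macaulay, and the dimension formula holds. -/
theorem isCohenMacaulayModule_localization [IsLocalRing R] [IsNoetherianRing R] {M : Type u}
    [AddCommGroup M] [Module R M] [Module.Finite R M] (h : IsCohenMacaulayModule R M)
    (p : PrimeSpectrum R) (hp : p ∈ Module.support R M) :
    IsCohenMacaulayModule (Localization.AtPrime p.asIdeal) (LocalizedModule p.asIdeal.primeCompl M) ∧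
      Module.supportDim (Localization.AtPrime p.asIdeal) (LocalizedModule p.asIdeal.primeCompl M) +
        ringKrullDim (R ⧸ p.asIdeal) = Module.supportDim R M := by
  haveI := (nontrivial_localizedModule_iff p).mpr hp
  have h1 := supportDim_localization_add_le p hp
  have h2 := depth_le_depth_localization_add (M := M) p.asIdeal
  rw [← h] at h2
  have hne : ringKrullDim (R ⧸ p.asIdeal) ≠ ⊥ :=
    ne_bot_of_le_ne_bot (by simp) (ringKrullDim_nonneg_of_nontrivial (R := R ⧸ p.asIdeal))
  obtain ⟨d, hd⟩ := WithBot.ne_bot_iff_exists.mp hne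
  have hdtop : d ≠ ⊤ := fun hd' => ringKrullDim_quotient_ne_top p.asIdeal (by rw [← hd, hd']; rfl)
  have hle : Module.supportDim (Localization.AtPrime p.asIdeal) (LocalizedModule p.asIdeal.primeCompl M) ≤
      ((depth (Localization.AtPrime p.asIdeal) (LocalizedModule p.asIdeal.primeCompl M) : ℕ∞) : WithBot ℕ∞) := by
    obtain ⟨e, he⟩ := WithBot.ne_bot_iff_exists.mp
      (Module.supportDim_ne_bot_of_nontrivial (Localization.AtPrime p.asIdeal) (LocalizedModule p.asIdeal.primeCompl M))
    have h3 := h1.trans h2
    rw [← he, ← hd, ← WithBot.coe_add, ← WithBot.coe_add, WithBot.coe_le_coe,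
      ENat.add_le_add_iff_right hdtop] at h3
    rw [← he]
    exact WithBot.coe_le_coe.mpr h3
  refine ⟨isCohenMacaulayModule_iff.mpr hle, le_antisymm h1 (h2.trans ?_)⟩
  exact add_le_add (depth_le_supportDim _) le_rfl

theorem isCohenMacaulayLocalRing_localization [IsCohenMacaulayLocalRing R] (p : Ideal R) [p.IsPrime] :
    IsCohenMacaulayLocalRing (Localization.AtPrime p) := by
  have h := (isCohenMacaulayModule_localization (M := R) isCohenMacaulayModule_self ⟨p, ‹_›⟩
    (Module.mem_support_iff'.mpr ⟨1, fun r hr => by rw [smul_eq_mul, mul_one]; exact fun h0 => hr (h0 ▸ p.zero_mem)⟩)).1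
  let e : LocalizedModule p.primeCompl R ≃ₗ[Localization.AtPrime p] Localization.AtPrime p :=
    LinearEquiv.extendScalarsOfIsLocalization p.primeCompl (Localization.AtPrime p)
      (IsLocalizedModule.linearEquiv p.primeCompl (LocalizedModule.mkLinearMap p.primeCompl R)
        (Algebra.linearMap R (Localization.AtPrime p)))
  exact { supportDim_eq_depth := (isCohenMacaulayModule_congr e).mp h }

theorem isCohenMacaulayRing_of_isCohenMacaulayLocalRing [IsCohenMacaulayLocalRing R] :
    IsCohenMacaulayRing R where
  isCohenMacaulayLocalRing_localization p _ := isCohenMacaulayLocalRing_localization p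

/-- A Cohen-Macaulay module over a local ring satisfies every `(S_k)`. -/
theorem hasSk_of_isCohenMacaulayModule [IsLocalRing R] [IsNoetherianRing R] {M : Type u}
    [AddCommGroup M] [Module R M] [Module.Finite R M] (h : IsCohenMacaulayModule R M) (k : ℕ) :
    HasSk k R M :=
  hasSk_of_forall_nontrivial fun p _ hn =>
    (min_le_right _ _).trans (isCohenMacaulayModule_localization h ⟨p, ‹_›⟩
      ((nontrivial_localizedModule_iff (M := M) (⟨p, ‹_›⟩ : PrimeSpectrum R)).mp hn)).1.le

end Groth.Agent.DepthLib
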