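import Groth.Agent.DepthLib.Localization
import Mathlib.RingTheory.KrullDimension.NonZeroDivisors

/-!
# `depth M ≤ dim R/p` for associated primes `p`
-/

universe u v

namespace Groth.Agent.DepthLib

open RingTheory.Sequence Submodule Pointwise
open LocCoh

variable {R : Type u} [CommRing R]

/-- An associated prime of `M` plus a regular element of the maximal ideal lies in an associated prime
of `M/xM`. -/
theorem exists_mem_associatedPrimes_quotSMulTop [IsLocalRing R] [IsNoetherianRing R] {M : Type v}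
    [AddCommGroup M] [Module R M] [Module.Finite R M] {x : R} (hx : x ∈ IsLocalRing.maximalIdeal R)
    (hreg : IsSMulRegular M x) {p : Ideal R} (hp : p ∈ associatedPrimes R M) :
    ∃ q ∈ associatedPrimes R (QuotSMulTop x M), p ≤ q ∧ x ∈ q := by
  let N : Submodule R M := Submodule.torsionBySet R M (p : Set R)
  have hN : N ≠ ⊥ := by
    obtain ⟨hprime, z, hz⟩ := isAssociatedPrime_iff.mp hp
    refine (Submodule.ne_bot_iff _).mpr ⟨z, ?_, fun h0 => hprime.ne_top ?_⟩
    · rw [Submodule.mem_torsionBySet_iff]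
      rintro ⟨a, ha⟩
      rw [SetLike.mem_coe, hz, Submodule.mem_colon_singleton, Submodule.mem_bot] at ha
      exact ha
    · rw [hz, h0]; ext a; simp [Submodule.mem_colon_singleton]
  have hnle : ¬ N ≤ x • (⊤ : Submodule R M) := by
    intro hle
    refine hN (Submodule.eq_bot_of_le_smul_of_le_jacobson_bot (Ideal.span {x}) N
      (IsNoetherian.noetherian N) ?_ ((Ideal.span_singleton_le_iff_mem _).mpr hx |>.trans
        (IsLocalRing.maximalIdeal_le_jacobson _)))
    intro z hz
    obtain ⟨w, -, rfl⟩ := (Submodule.mem_smul_pointwise_iff_exists _ _ _).mp (hle hz)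
    refine Submodule.smul_mem_smul (Ideal.mem_span_singleton_self x) ?_
    rw [Submodule.mem_torsionBySet_iff] at hz ⊢
    exact fun a => hreg (by show x • (a : R) • w = x • 0; rw [smul_comm, hz a, smul_zero])
  obtain ⟨z, hz, hzn⟩ := SetLike.not_le_iff_exists.mp hnle
  obtain ⟨q, hq, hle⟩ := exists_le_isAssociatedPrime_of_isNoetherianRing R
    (Submodule.Quotient.mk (p := x • (⊤ : Submodule R M)) z)
    (by rw [ne_eq, Submodule.Quotient.mk_eq_zero]; exact hzn)
  refine ⟨q, hq, fun a ha => hle ?_, hle ?_⟩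
  · rw [Submodule.mem_colon_singleton, ← Submodule.Quotient.mk_smul, Submodule.mem_bot,
      (Submodule.mem_torsionBySet_iff _ _).mp hz ⟨a, ha⟩, Submodule.Quotient.mk_zero]
  · rw [Submodule.mem_colon_singleton, ← Submodule.Quotient.mk_smul, Submodule.mem_bot,
      Submodule.Quotient.mk_eq_zero]
    exact Submodule.smul_mem_pointwise_smul _ _ _ trivial

theorem ringKrullDim_quotient_succ_le {p q : Ideal R} [p.IsPrime] (hle : p ≤ q) {x : R}
    (hxp : x ∉ p) (hxq : x ∈ q) : ringKrullDim (R ⧸ q) + 1 ≤ ringKrullDim (R ⧸ p) :=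
  ringKrullDim_succ_le_of_surjective (Ideal.Quotient.factor hle) (Ideal.Quotient.factor_surjective hle)
    (r := Ideal.Quotient.mk p x)
    (mem_nonZeroDivisors_of_ne_zero (mt Ideal.Quotient.eq_zero_iff_mem.mp hxp))
    (by rw [Ideal.Quotient.factor_mk]; exact Ideal.Quotient.eq_zero_iff_mem.mpr hxq)

theorem natCast_le_ringKrullDim_quotient_aux [IsLocalRing R] [IsNoetherianRing R] (n : ℕ) :
    ∀ (M : Type v) [AddCommGroup M] [Module R M] [Module.Finite R M] (p : Ideal R),
      p ∈ associatedPrimes R M → (∃ rs : List R, rs.length = n ∧ IsWeaklyRegular M rs ∧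
        ∀ r ∈ rs, r ∈ IsLocalRing.maximalIdeal R) → (n : WithBot ℕ∞) ≤ ringKrullDim (R ⧸ p) := by
  induction n with
  | zero =>
    intro M _ _ _ p hp _
    haveI := IsAssociatedPrime.isPrime hp
    exact_mod_cast ringKrullDim_nonneg_of_nontrivial
  | succ n ih =>
    rintro M _ _ _ p hp ⟨rs, hlen, hrs, hI⟩
    obtain ⟨x, rs, rfl⟩ := List.exists_cons_of_length_eq_add_one hlen
    rw [isWeaklyRegular_cons_iff] at hrs
    haveI := IsAssociatedPrime.isPrime hp
    have hxp : x ∉ p := fun h => by
      have : x ∈ ⋃ q ∈ associatedPrimes R M, (q : Set R) := Set.mem_biUnion hp h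
      rw [biUnion_associatedPrimes_eq_compl_regular] at this
      exact this hrs.1
    obtain ⟨q, hq, hpq, hxq⟩ := exists_mem_associatedPrimes_quotSMulTop (hI x (by simp)) hrs.1 hp
    refine le_trans ?_ (ringKrullDim_quotient_succ_le hpq hxp hxq)
    push_cast
    gcongr
    exact ih (QuotSMulTop x M) q hq ⟨rs, by simpa using hlen, hrs.2, fun r hr => hI r (by simp [hr])⟩

/-- `depth M ≤ dim R/p` for every associated prime `p`. -/
theorem depth_le_ringKrullDim_quotient [IsLocalRing R] [IsNoetherianRing R] {M : Type v}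
    [AddCommGroup M] [Module R M] [Module.Finite R M] {p : Ideal R} (hp : p ∈ associatedPrimes R M) :
    ((depth R M : ℕ∞) : WithBot ℕ∞) ≤ ringKrullDim (R ⧸ p) := by
  haveI := IsAssociatedPrime.isPrime hp
  rcases hd : ringKrullDim (R ⧸ p) with _ | d
  · exact absurd hd (ne_bot_of_le_ne_bot (by simp) (ringKrullDim_nonneg_of_nontrivial (R := R ⧸ p)))
  refine WithBot.coe_le_coe.mpr (ENat.forall_natCast_le_iff_le.mp fun n hn => ?_)
  rw [← WithBot.coe_le_coe (α := ℕ∞)]
  exact (natCast_le_ringKrullDim_quotient_aux n M p hp (natCast_le_depth_iff.mp hn)).trans hd.le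

end Groth.Agent.DepthLib
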