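import Groth.Agent.DepthLib.Localization
import Groth.Agent.DepthLib.Ischebeck
import Groth.Agent.DepthLib.Sk
import Mathlib.RingTheory.Localization.Ideal
import Mathlib.RingTheory.Ideal.KrullsHeightTheorem

/-!
# Quotients by regular sequences, depth under specialisation, regular sequences of generators
-/

universe u v

namespace Groth.Agent.DepthLib

open RingTheory.Sequence Submodule Pointwise
open LocCoh

variable {R : Type u} [CommRing R]

/-- Cutting down by a weakly regular sequence in `I` drops the `I`-depth by its length. -/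
theorem idealDepth_quot_ofList_add_length [IsNoetherianRing R] {I : Ideal R} (rs : List R) :
    ∀ (M : Type u) [AddCommGroup M] [Module R M] [Module.Finite R M],
      IsWeaklyRegular M rs → (∀ r ∈ rs, r ∈ I) →
      idealDepth I (M ⧸ (Ideal.ofList rs • ⊤ : Submodule R M)) + rs.length = idealDepth I M := by
  induction rs with
  | nil =>
    intro M _ _ _ _ _
    rw [idealDepth_congr (Submodule.quotEquivOfEqBot _ (by rw [Ideal.ofList_nil, Submodule.bot_smul]))]
    simp
  | cons x rs ih =>
    intro M _ _ _ h hI
    rw [isWeaklyRegular_cons_iff] at h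
    rw [idealDepth_congr (quotOfListConsSMulTopEquivQuotSMulTopInner M x rs), List.length_cons,
      Nat.cast_add, Nat.cast_one, ← add_assoc, ih (QuotSMulTop x M) h.2 (fun r hr => hI r (by simp [hr])),
      idealDepth_quotSMulTop_add_one (hI x (by simp)) h.1]

theorem isWeaklyRegular_concat_iff {M : Type v} [AddCommGroup M] [Module R M] (rs : List R) (r : R) :
    IsWeaklyRegular M (rs ++ [r]) ↔
      IsWeaklyRegular M rs ∧ IsSMulRegular (M ⧸ (Ideal.ofList rs • ⊤ : Submodule R M)) r :=
  (isWeaklyRegular_append_iff M rs [r]).trans (and_congr_right' (isWeaklyRegular_singleton_iff _ r))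

/-- A weakly regular sequence that cannot be extended in `I` has length `depth_I M`. -/
theorem length_eq_idealDepth_of_maximal [IsNoetherianRing R] {I : Ideal R} {M : Type u} [AddCommGroup M]
    [Module R M] [Module.Finite R M] {rs : List R} (h : IsWeaklyRegular M rs) (hI : ∀ r ∈ rs, r ∈ I)
    (hmax : ∀ r ∈ I, ¬ IsWeaklyRegular M (rs ++ [r])) : (rs.length : ℕ∞) = idealDepth I M := by
  rw [← idealDepth_quot_ofList_add_length rs M h hI]
  have h0 : idealDepth I (M ⧸ (Ideal.ofList rs • ⊤ : Submodule R M)) = 0 := by
    by_contra hne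
    obtain ⟨r, hr, hreg⟩ := one_le_idealDepth_iff.mp (Order.one_le_iff_pos.mpr (pos_iff_ne_zero.mpr hne))
    exact hmax r hr ((isWeaklyRegular_concat_iff rs r).mpr ⟨h, hreg⟩)
  rw [h0, zero_add]

/-- Extension to a maximal weakly regular sequence in `I`. -/
theorem exists_maximal_extension [IsNoetherianRing R] {I : Ideal R} {M : Type u} [AddCommGroup M]
    [Module R M] [Module.Finite R M] (hIM : I • (⊤ : Submodule R M) ≠ ⊤) {rs : List R}
    (h : IsWeaklyRegular M rs) (hI : ∀ r ∈ rs, r ∈ I) :
    ∃ rs' : List R, rs <+: rs' ∧ IsWeaklyRegular M rs' ∧ (∀ r ∈ rs', r ∈ I) ∧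
      ∀ r ∈ I, ¬ IsWeaklyRegular M (rs' ++ [r]) := by
  obtain ⟨d, hd⟩ := WithTop.ne_top_iff_exists.mp (fun h => hIM (idealDepth_eq_top_iff (I := I) (M := M) |>.mp h))
  have key : ∀ (k : ℕ) (rs : List R), IsWeaklyRegular M rs → (∀ r ∈ rs, r ∈ I) → d - rs.length ≤ k →
      ∃ rs' : List R, rs <+: rs' ∧ IsWeaklyRegular M rs' ∧ (∀ r ∈ rs', r ∈ I) ∧
        ∀ r ∈ I, ¬ IsWeaklyRegular M (rs' ++ [r]) := by
    intro k
    induction k with
    | zero =>
      intro rs h hI hk
      refine ⟨rs, List.prefix_rfl, h, hI, fun r hr hreg => ?_⟩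
      have := le_idealDepth_of_isWeaklyRegular (rs ++ [r]) hreg (I := I)
        (by simpa [or_imp, forall_and] using ⟨hI, hr⟩)
      rw [← hd] at this
      have h' := Nat.cast_le.mp this
      rw [List.length_append, List.length_singleton] at h'
      omega
    | succ k ih =>
      intro rs h hI hk
      by_cases hmax : ∀ r ∈ I, ¬ IsWeaklyRegular M (rs ++ [r])
      · exact ⟨rs, List.prefix_rfl, h, hI, hmax⟩
      · push Not at hmax
        obtain ⟨r, hr, hreg⟩ := hmax
        obtain ⟨rs', h1, h2⟩ := ih (rs ++ [r]) hreg (by simpa [or_imp, forall_and] using ⟨hI, hr⟩)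
          (by rw [List.length_append, List.length_singleton]; omega)
        exact ⟨rs', (List.prefix_append rs [r]).trans h1, h2⟩
  exact key d rs h hI (Nat.sub_le _ _)

section Localization

variable {M : Type v} [AddCommGroup M] [Module R M]

theorem localizedModule_map_lsmul (S : Submonoid R) (x : R) :
    LocalizedModule.map S (LinearMap.lsmul R M x) =
      LinearMap.lsmul (Localization S) (LocalizedModule S M) (algebraMap R (Localization S) x) := by
  ext z
  induction z using LocalizedModule.induction_on with
  | h m s =>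
    rw [LocalizedModule.map_mk, LinearMap.lsmul_apply, LinearMap.lsmul_apply,
      ← Localization.mk_one_eq_algebraMap, LocalizedModule.mk_smul_mk, one_mul]

/-- `(M/xM)_S ≅ M_S / x M_S`. -/
noncomputable def localizedQuotSMulTopEquiv (S : Submonoid R) (x : R) :
    QuotSMulTop (algebraMap R (Localization S) x) (LocalizedModule S M) ≃ₗ[Localization S]
      LocalizedModule S (QuotSMulTop x M) :=
  (Submodule.quotEquivOfEq _ _ (by
      ext z
      have h : LocalizedModule.map S (x • (⊤ : Submodule R M)).mkQ z = 0 ↔
          z ∈ Set.range (LocalizedModule.map S (LinearMap.lsmul R M x)) :=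
        LocalizedModule.map_exact S _ _ (LinearMap.exact_lsmul_mkQ_smul_top M x) z
      rw [LinearMap.mem_ker, h, localizedModule_map_lsmul]
      simp [Submodule.mem_smul_pointwise_iff_exists])).trans
    ((LocalizedModule.map S (x • (⊤ : Submodule R M)).mkQ).quotKerEquivOfSurjective
      (LocalizedModule.map_surjective _ _ (Submodule.mkQ_surjective _)))

end Localization

theorem depth_localization_quotSMulTop_add_one [IsNoetherianRing R] {M : Type u} [AddCommGroup M]
    [Module R M] [Module.Finite R M] (p : Ideal R) [p.IsPrime] {x : R} (hx : x ∈ p)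
    (hreg : IsSMulRegular (LocalizedModule p.primeCompl M) (algebraMap R (Localization.AtPrime p) x)) :
    depth (Localization.AtPrime p) (LocalizedModule p.primeCompl (QuotSMulTop x M)) + 1 =
      depth (Localization.AtPrime p) (LocalizedModule p.primeCompl M) := by
  rw [← depth_congr (localizedQuotSMulTopEquiv (M := M) p.primeCompl x)]
  exact idealDepth_quotSMulTop_add_one
    ((IsLocalization.AtPrime.to_map_mem_maximal_iff (Localization.AtPrime p) p x).mpr hx) hreg

theorem isSMulRegular_localization_of_le {M : Type v} [AddCommGroup M] [Module R M] {p s : Ideal R}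
    [p.IsPrime] [s.IsPrime] (hps : p ≤ s) {x : R}
    (hreg : IsSMulRegular (LocalizedModule s.primeCompl M) (algebraMap R (Localization.AtPrime s) x)) :
    IsSMulRegular (LocalizedModule p.primeCompl M) (algebraMap R (Localization.AtPrime p) x) := by
  refine IsSMulRegular.of_right_eq_zero_of_smul fun z hz => ?_
  induction z using LocalizedModule.induction_on with
  | h m t =>
    rw [← Localization.mk_one_eq_algebraMap, LocalizedModule.mk_smul_mk, one_mul,
      ← LocalizedModule.zero_mk t, LocalizedModule.mk_eq] at hz
    obtain ⟨u, hu⟩ := hz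
    simp only [Submonoid.smul_def, smul_zero] at hu
    have h0 : LocalizedModule.mk ((u : R) • (t : R) • m) (1 : s.primeCompl) = 0 := by
      refine hreg.right_eq_zero_of_smul ?_
      rw [← Localization.mk_one_eq_algebraMap, LocalizedModule.mk_smul_mk, one_mul, smul_comm,
        smul_comm x (t : R), hu, LocalizedModule.zero_mk]
    rw [← LocalizedModule.zero_mk (1 : s.primeCompl), LocalizedModule.mk_eq] at h0
    obtain ⟨v, hv⟩ := h0
    simp only [Submonoid.smul_def, Submonoid.coe_one, one_smul, smul_zero] at hv
    rw [← LocalizedModule.zero_mk t, LocalizedModule.mk_eq]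
    exact ⟨⟨v * u, fun h => (‹p.IsPrime›.mem_or_mem h).elim (fun h' => v.2 (hps h')) u.2⟩, by
      simp only [Submonoid.smul_def, smul_zero, mul_smul]; exact hv⟩

theorem ringKrullDim_localization_quotient {p s : Ideal R} [p.IsPrime] [s.IsPrime] (hps : p ≤ s) :
    ringKrullDim (Localization.AtPrime s ⧸ p.map (algebraMap R (Localization.AtPrime s))) =
      (s.map (Ideal.Quotient.mk p)).height := by
  haveI : (s.map (Ideal.Quotient.mk p)).IsPrime :=
    Ideal.map_isPrime_of_surjective Ideal.Quotient.mk_surjective (by rwa [Ideal.mk_ker])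
  have hmem : ∀ x, Ideal.Quotient.mk p x ∈ s.map (Ideal.Quotient.mk p) ↔ x ∈ s := fun x =>
    Ideal.mem_quotient_iff_mem hps
  have hM : Algebra.algebraMapSubmonoid (R ⧸ p) s.primeCompl = (s.map (Ideal.Quotient.mk p)).primeCompl := by
    ext y
    constructor
    · rintro ⟨x, hx, rfl⟩
      exact fun h => hx ((hmem x).mp h)
    · intro hy
      obtain ⟨x, rfl⟩ := Ideal.Quotient.mk_surjective y
      exact ⟨x, fun h => hy ((hmem x).mpr h), rfl⟩
  haveI : IsLocalization.AtPrime
      (Localization.AtPrime s ⧸ p.map (algebraMap R (Localization.AtPrime s)))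
      (s.map (Ideal.Quotient.mk p)) := by
    unfold IsLocalization.AtPrime
    rw [← hM]
    infer_instance
  exact IsLocalization.AtPrime.ringKrullDim_eq_height _ _

/-- `depth M_s ≤ depth M_p + ht (s/p)`. -/
theorem depth_localization_le_add_height [IsNoetherianRing R] (M : Type u) [AddCommGroup M] [Module R M]
    [Module.Finite R M] (p s : Ideal R) [p.IsPrime] [s.IsPrime] (hps : p ≤ s) :
    depth (Localization.AtPrime s) (LocalizedModule s.primeCompl M) ≤
      depth (Localization.AtPrime p) (LocalizedModule p.primeCompl M) +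
        (s.map (Ideal.Quotient.mk p)).height := by
  suffices key : ∀ (n : ℕ) (M : Type u) [AddCommGroup M] [Module R M] [Module.Finite R M],
      (n : ℕ∞) ≤ depth (Localization.AtPrime s) (LocalizedModule s.primeCompl M) →
      (n : ℕ∞) ≤ depth (Localization.AtPrime p) (LocalizedModule p.primeCompl M) +
        (s.map (Ideal.Quotient.mk p)).height from
    ENat.forall_natCast_le_iff_le.mp fun n => key n M
  intro n
  induction n with
  | zero => intros; simp
  | succ n ih =>
    intro M _ _ _ hn
    by_cases hreg : 1 ≤ idealDepth (p.map (algebraMap R (Localization.AtPrime s)))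
        (LocalizedModule s.primeCompl M)
    · obtain ⟨y, hy, hyreg⟩ := one_le_idealDepth_iff.mp hreg
      obtain ⟨⟨⟨x, hx⟩, t⟩, hxy⟩ := (IsLocalization.mem_map_algebraMap_iff s.primeCompl _).mp hy
      have hxreg : IsSMulRegular (LocalizedModule s.primeCompl M)
          (algebraMap R (Localization.AtPrime s) x) := by
        rw [← hxy]
        exact IsSMulRegular.mul hyreg
          ((IsLocalization.map_units (Localization.AtPrime s) t).isSMulRegular _)
      rw [← depth_localization_quotSMulTop_add_one p hx (isSMulRegular_localization_of_le hps hxreg),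
        add_right_comm]
      rw [← depth_localization_quotSMulTop_add_one s (hps hx) hxreg] at hn
      push_cast at hn ⊢
      gcongr
      exact ih _ ((ENat.add_le_add_iff_right ENat.one_ne_top).mp hn)
    · rw [one_le_idealDepth_iff_forall_associatedPrimes] at hreg
      push Not at hreg
      obtain ⟨Q, hQ, hle⟩ := hreg
      refine hn.trans (le_trans ?_ le_add_self)
      rw [← WithBot.coe_le_coe, ← ringKrullDim_localization_quotient hps]
      exact (depth_le_ringKrullDim_quotient hQ).trans
        (ringKrullDim_le_of_surjective (Ideal.Quotient.factor hle) (Ideal.Quotient.factor_surjective hle))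

/-- Over a local ring, adding one element to an ideal raises the depth by at most one. -/
theorem natCast_le_idealDepth_of_sup_span_singleton [IsLocalRing R] [IsNoetherianRing R] {M : Type u}
    [AddCommGroup M] [Module R M] [Module.Finite R M] (b : Ideal R) {x : R}
    (hx : x ∈ IsLocalRing.maximalIdeal R) {n : ℕ}
    (h : ((n + 1 : ℕ) : ℕ∞) ≤ idealDepth (b ⊔ Ideal.span {x}) M) : (n : ℕ∞) ≤ idealDepth b M := by
  refine natCast_le_idealDepth_iff_forall_localization.mpr fun p _ hbp => ?_
  have hpm : p ≤ IsLocalRing.maximalIdeal R := IsLocalRing.le_maximalIdeal Ideal.IsPrime.ne_top'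
  obtain ⟨q, hq, -⟩ := Ideal.exists_minimalPrimes_le (I := p ⊔ Ideal.span {x})
    (J := IsLocalRing.maximalIdeal R) (sup_le hpm ((Ideal.span_singleton_le_iff_mem _).mpr hx))
  haveI := hq.1.1
  have hpq : p ≤ q := le_sup_left.trans hq.1.2
  have hd := h.trans (idealDepth_le_depth_localization (M := M) q
    (sup_le (hbp.trans hpq) (le_sup_right.trans hq.1.2)))
  have hh : (q.map (Ideal.Quotient.mk p)).height ≤ 1 := by
    have hcomap : (Ideal.span {Ideal.Quotient.mk p x}).comap (Ideal.Quotient.mk p) =
        p ⊔ Ideal.span {x} := by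
      rw [← Set.image_singleton, ← Ideal.map_span, Ideal.comap_map_of_surjective' _
        Ideal.Quotient.mk_surjective, Ideal.mk_ker, sup_comm]
    rw [← hcomap, Ideal.comap_minimalPrimes_eq_of_surjective Ideal.Quotient.mk_surjective] at hq
    obtain ⟨Q, hQ, rfl⟩ := hq
    rw [Ideal.map_comap_of_surjective _ Ideal.Quotient.mk_surjective]
    exact Ideal.height_le_one_of_isPrincipal_of_mem_minimalPrimes _ _ hQ
  have := hd.trans ((depth_localization_le_add_height M p q hpq).trans (add_le_add le_rfl hh))
  push_cast at this
  exact (ENat.add_le_add_iff_right ENat.one_ne_top).mp this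

/-- Generators of an ideal of depth at least their number form a regular sequence (local case). -/
theorem isWeaklyRegular_of_length_le_idealDepth [IsLocalRing R] [IsNoetherianRing R] {M : Type u}
    [AddCommGroup M] [Module R M] [Module.Finite R M] (xs : List R)
    (hxs : ∀ x ∈ xs, x ∈ IsLocalRing.maximalIdeal R)
    (h : (xs.length : ℕ∞) ≤ idealDepth (Ideal.ofList xs) M) : IsWeaklyRegular M xs := by
  induction xs using List.reverseRecOn with
  | nil => exact .nil R M
  | append_singleton bs x ih =>
    have hb : IsWeaklyRegular M bs := ih (fun y hy => hxs y (List.mem_append_left _ hy))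
      (natCast_le_idealDepth_of_sup_span_singleton _ (hxs x (by simp)) (by
        rw [List.length_append, List.length_singleton, Ideal.ofList_append, Ideal.ofList_singleton] at h
        exact h))
    refine (isWeaklyRegular_concat_iff bs x).mpr ⟨hb, ?_⟩
    rw [← idealDepth_quot_ofList_add_length bs M hb
      (I := Ideal.ofList (bs ++ [x]))
      (fun r hr => Ideal.subset_span (List.mem_append_left _ hr)), List.length_append,
      List.length_singleton, Nat.cast_add, Nat.cast_one, add_comm] at h
    obtain ⟨y, hy, hyreg⟩ := one_le_idealDepth_iff.mp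
      ((ENat.add_le_add_iff_right (ENat.coe_ne_top bs.length)).mp h)
    rw [Ideal.ofList_append, Ideal.ofList_singleton] at hy
    obtain ⟨b, hb', z, hz, rfl⟩ := Submodule.mem_sup.mp hy
    obtain ⟨c, rfl⟩ := Ideal.mem_span_singleton'.mp hz
    refine IsSMulRegular.of_mul (a := c) fun q₁ q₂ hq => hyreg ?_
    have hkill : ∀ q : M ⧸ (Ideal.ofList bs • ⊤ : Submodule R M), b • q = 0 := fun q => by
      obtain ⟨m, rfl⟩ := Submodule.Quotient.mk_surjective _ q
      rw [← Submodule.Quotient.mk_smul, Submodule.Quotient.mk_eq_zero]
      exact Submodule.smul_mem_smul hb' trivial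
    show (b + c * x) • q₁ = (b + c * x) • q₂
    rw [add_smul, add_smul, hkill, hkill, show (c * x) • q₁ = (c * x) • q₂ from hq]

end Groth.Agent.DepthLib
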