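import Groth.Agent.DepthLib.Basic
import Mathlib.RingTheory.Depth.Rees
import Mathlib.Algebra.Homology.ShortComplex.ModuleCat
import Mathlib.Algebra.Homology.DerivedCategory.Ext.Linear

/-!
# Depth and vanishing of `Ext`; depth along short exact sequences
-/

universe u

namespace Groth.Agent.DepthLib

open RingTheory.Sequence Submodule Pointwise CategoryTheory Abelian
open LocCoh

variable {R : Type u} [CommRing R] {I : Ideal R}

/-- An element acting as the identity on `M` and as zero on `N` kills all `Ext N M`. -/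
theorem subsingleton_ext_of_smul_eq_self {N M : ModuleCat.{u} R} {a : R}
    (hN : ∀ n : N, a • n = 0) (hM : ∀ m : M, a • m = m) (i : ℕ) : Subsingleton (Ext N M i) := by
  refine subsingleton_of_forall_eq 0 fun h => ?_
  have h1 : a • 𝟙 M = 𝟙 M := by ext m; exact hM m
  have h2 : a • 𝟙 N = 0 := by ext n; exact hN n
  have e1 : a • h = h.comp (Ext.mk₀ (a • 𝟙 M)) (add_zero i) := by simp [Ext.mk₀_smul]
  have e2 : a • h = (Ext.mk₀ (a • 𝟙 N)).comp h (zero_add i) := by simp [Ext.mk₀_smul]
  rw [h1, Ext.comp_mk₀_id] at e1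
  rw [← e1, e2, h2, Ext.mk₀_zero, Ext.zero_comp]

/-- `n ≤ depth_I M` iff `Ext^i(R/I, M) = 0` for `i < n`. -/
theorem natCast_le_idealDepth_iff_ext [IsNoetherianRing R] (I : Ideal R) (M : Type u)
    [AddCommGroup M] [Module R M] [Module.Finite R M] (n : ℕ) :
    (n : ℕ∞) ≤ idealDepth I M ↔
      ∀ i < n, Subsingleton (Ext (ModuleCat.of R (R ⧸ I)) (ModuleCat.of R M) i) := by
  by_cases htop : I • (⊤ : Submodule R M) = ⊤
  · obtain ⟨a, ha, hact⟩ := exists_mem_smul_eq_self htop
    simp only [idealDepth_of_smul_top_eq htop, le_top, true_iff]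
    exact fun i _ => subsingleton_ext_of_smul_eq_self (a := a) (fun q => by
      obtain ⟨r, rfl⟩ := Ideal.Quotient.mk_surjective q
      exact Ideal.Quotient.eq_zero_iff_mem.mpr (I.mul_mem_right r ha)) hact i
  · have hsupp : Module.support R (R ⧸ I) = PrimeSpectrum.zeroLocus (I : Set R) := by
      rw [Module.support_eq_zeroLocus, Ideal.annihilator_quotient]
    constructor
    · intro h i hi
      obtain ⟨rs, hlen, hrs, hI⟩ := natCast_le_idealDepth_iff.mp h
      refine ModuleCat.subsingleton_ext_of_exists_isRegular I (ModuleCat.of R (R ⧸ I)) hsupp.le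
        (ModuleCat.of R M) (lt_top_iff_ne_top.mpr htop) rs hI ⟨hrs, fun he => htop ?_⟩ i (hlen ▸ hi)
      exact top_le_iff.mp (he.le.trans (Submodule.smul_mono_left (Ideal.span_le.mpr hI)))
    · intro h
      obtain ⟨rs, hlen, hI, hrs⟩ := ModuleCat.exists_isRegular_of_exists_subsingleton_ext I n
        (ModuleCat.of R M) (lt_top_iff_ne_top.mpr htop) (ModuleCat.of R (R ⧸ I)) hsupp h
      exact natCast_le_idealDepth_iff.mpr ⟨rs, hlen, hrs.toIsWeaklyRegular, hI⟩

/-- `Ext^i(N, M) = 0` below the `I`-depth of `M` when `Supp N ⊆ V(I)`. -/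
theorem subsingleton_ext_of_lt_idealDepth [IsNoetherianRing R] {M N : Type u}
    [AddCommGroup M] [Module R M] [Module.Finite R M] [AddCommGroup N] [Module R N] [Module.Finite R N]
    (hsupp : Module.support R N ⊆ PrimeSpectrum.zeroLocus (I : Set R)) {i : ℕ}
    (hi : (i : ℕ∞) < idealDepth I M) :
    Subsingleton (Ext (ModuleCat.of R N) (ModuleCat.of R M) i) := by
  have hi' : ((i + 1 : ℕ) : ℕ∞) ≤ idealDepth I M := by
    push_cast; exact Order.add_one_le_of_lt hi
  by_cases htop : I • (⊤ : Submodule R M) = ⊤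
  · obtain ⟨a, ha, hact⟩ := exists_mem_smul_eq_self htop
    rw [Module.support_eq_zeroLocus, PrimeSpectrum.zeroLocus_subset_zeroLocus_iff] at hsupp
    obtain ⟨k, hk⟩ := hsupp ha
    refine subsingleton_ext_of_smul_eq_self (a := a ^ k) (Module.mem_annihilator.mp hk) ?_ i
    intro m
    clear hk
    induction k with
    | zero => simp
    | succ k ih => rw [pow_succ, mul_smul, hact, ih]
  · obtain ⟨rs, hlen, hrs, hI⟩ := natCast_le_idealDepth_iff.mp hi'
    refine ModuleCat.subsingleton_ext_of_exists_isRegular I (ModuleCat.of R N) hsupp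
      (ModuleCat.of R M) (lt_top_iff_ne_top.mpr htop) rs hI ⟨hrs, fun he => htop ?_⟩ i (by omega)
    exact top_le_iff.mp (he.le.trans (Submodule.smul_mono_left (Ideal.span_le.mpr hI)))

section ShortExact

variable [IsNoetherianRing R] {M' M M'' : Type u} [AddCommGroup M'] [Module R M'] [Module.Finite R M']
  [AddCommGroup M] [Module R M] [Module.Finite R M] [AddCommGroup M''] [Module R M'']
  [Module.Finite R M''] {f : M' →ₗ[R] M} {g : M →ₗ[R] M''}

theorem shortExact_of_exact (hf : Function.Injective f) (hg : Function.Surjective g)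
    (hfg : Function.Exact f g) :
    (ModuleCat.shortComplexOfCompEqZero f g hfg.linearMap_comp_eq_zero).ShortExact :=
  ModuleCat.shortComplex_shortExact _ hfg hf hg

/-- depth M ≥ min(depth M', depth M''). -/
theorem natCast_le_idealDepth_middle (hf : Function.Injective f) (hg : Function.Surjective g)
    (hfg : Function.Exact f g) {n : ℕ} (h₁ : (n : ℕ∞) ≤ idealDepth I M')
    (h₃ : (n : ℕ∞) ≤ idealDepth I M'') : (n : ℕ∞) ≤ idealDepth I M := by
  rw [natCast_le_idealDepth_iff_ext] at h₁ h₃ ⊢
  intro i hi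
  have := h₁ i hi
  have := h₃ i hi
  refine subsingleton_of_forall_eq 0 fun x => ?_
  obtain ⟨y, rfl⟩ := Ext.covariant_sequence_exact₂ _ (shortExact_of_exact hf hg hfg) x
    (Subsingleton.elim _ _)
  rw [Subsingleton.elim y 0, Ext.zero_comp]

/-- depth M'' ≥ min(depth M, depth M' - 1). -/
theorem natCast_le_idealDepth_right (hf : Function.Injective f) (hg : Function.Surjective g)
    (hfg : Function.Exact f g) {n : ℕ} (h₂ : (n : ℕ∞) ≤ idealDepth I M)
    (h₁ : ((n + 1 : ℕ) : ℕ∞) ≤ idealDepth I M') : (n : ℕ∞) ≤ idealDepth I M'' := by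
  rw [natCast_le_idealDepth_iff_ext] at h₁ h₂ ⊢
  intro i hi
  have := h₂ i hi
  have := h₁ (i + 1) (by omega)
  refine subsingleton_of_forall_eq 0 fun x => ?_
  obtain ⟨y, rfl⟩ := Ext.covariant_sequence_exact₃ _ (shortExact_of_exact hf hg hfg) x rfl
    (Subsingleton.elim _ _)
  rw [Subsingleton.elim y 0, Ext.zero_comp]

/-- depth M' ≥ min(depth M, depth M'' + 1). -/
theorem natCast_le_idealDepth_left (hf : Function.Injective f) (hg : Function.Surjective g)
    (hfg : Function.Exact f g) {n : ℕ} (h₂ : ((n + 1 : ℕ) : ℕ∞) ≤ idealDepth I M)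
    (h₃ : (n : ℕ∞) ≤ idealDepth I M'') : ((n + 1 : ℕ) : ℕ∞) ≤ idealDepth I M' := by
  rw [natCast_le_idealDepth_iff_ext] at h₂ h₃ ⊢
  intro i hi
  refine subsingleton_of_forall_eq 0 fun x => ?_
  have := h₂ i hi
  cases i with
  | zero =>
    have hS := shortExact_of_exact hf hg hfg
    haveI : Mono (ModuleCat.ofHom f) := hS.mono_f
    exact Ext.postcomp_mk₀_injective_of_mono _ (ModuleCat.ofHom f) (Subsingleton.elim _ _)
  | succ j =>
    have := h₃ j (by omega)
    obtain ⟨y, rfl⟩ := Ext.covariant_sequence_exact₁ _ (shortExact_of_exact hf hg hfg) x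
      (Subsingleton.elim _ _) rfl
    rw [Subsingleton.elim y 0, Ext.zero_comp]

theorem min_le_idealDepth_middle (hf : Function.Injective f) (hg : Function.Surjective g)
    (hfg : Function.Exact f g) : min (idealDepth I M') (idealDepth I M'') ≤ idealDepth I M :=
  ENat.forall_natCast_le_iff_le.mp fun n hn =>
    natCast_le_idealDepth_middle hf hg hfg (le_min_iff.mp hn).1 (le_min_iff.mp hn).2

theorem min_le_idealDepth_right (hf : Function.Injective f) (hg : Function.Surjective g)
    (hfg : Function.Exact f g) : min (idealDepth I M) (idealDepth I M' - 1) ≤ idealDepth I M'' := by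
  refine ENat.forall_natCast_le_iff_le.mp fun n hn => ?_
  rcases Nat.eq_zero_or_pos n with rfl | hpos
  · simp
  refine natCast_le_idealDepth_right hf hg hfg (le_min_iff.mp hn).1 ?_
  have h := (le_min_iff.mp hn).2
  cases hd : idealDepth I M' with
  | top => exact le_top
  | coe m =>
    rw [hd, ← Nat.cast_one, ← ENat.natCast_sub, Nat.cast_le] at h
    exact Nat.cast_le.mpr (by omega)

theorem min_le_idealDepth_left (hf : Function.Injective f) (hg : Function.Surjective g)
    (hfg : Function.Exact f g) : min (idealDepth I M) (idealDepth I M'' + 1) ≤ idealDepth I M' := by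
  refine ENat.forall_natCast_le_iff_le.mp fun n hn => ?_
  cases n with
  | zero => simp
  | succ m =>
    refine natCast_le_idealDepth_left hf hg hfg (le_min_iff.mp hn).1 ?_
    have h := (le_min_iff.mp hn).2
    push_cast at h
    exact (ENat.add_le_add_iff_right ENat.one_ne_top).mp h

end ShortExact

/-- For `x ∈ I` regular on `M`, `depth_I (M/xM) + 1 = depth_I M`. -/
theorem idealDepth_quotSMulTop_add_one [IsNoetherianRing R] {M : Type u} [AddCommGroup M] [Module R M]
    [Module.Finite R M] {x : R} (hx : x ∈ I) (hreg : IsSMulRegular M x) :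
    idealDepth I (QuotSMulTop x M) + 1 = idealDepth I M := by
  refine le_antisymm (idealDepth_quotSMulTop_add_one_le hx hreg) ?_
  refine ENat.forall_natCast_le_iff_le.mp fun n hn => ?_
  cases n with
  | zero => simp
  | succ m =>
    push_cast
    gcongr
    exact natCast_le_idealDepth_right (f := LinearMap.lsmul R M x)
      (g := (x • (⊤ : Submodule R M)).mkQ) hreg (Submodule.mkQ_surjective _)
      (LinearMap.exact_lsmul_mkQ_smul_top M x) ((Nat.cast_le.mpr m.le_succ).trans hn) hn

end Groth.Agent.DepthLib
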