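import Groth.Agent.DepthLib.Generators

/-!
# Regular quotients of regular local rings
-/

universe u

namespace Groth.Agent.DepthLib

open RingTheory.Sequence

/-- Dividing a regular local ring by an element outside `m²`. -/
theorem isRegularLocalRing_quotient_singleton {R : Type u} [CommRing R] [IsRegularLocalRing R] {n : ℕ}
    (hn : (IsLocalRing.maximalIdeal R).spanFinrank = n + 1) {x : R}
    (hx : x ∈ IsLocalRing.maximalIdeal R) (hx2 : x ∉ IsLocalRing.maximalIdeal R ^ 2) :
    ∃ _ : IsRegularLocalRing (R ⧸ Ideal.span {x}),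
      (IsLocalRing.maximalIdeal (R ⧸ Ideal.span {x})).spanFinrank = n := by
  haveI := isDomain_of_isRegularLocalRing R
  have hdim : ringKrullDim R = (n + 1 : ℕ) := by
    rw [← IsRegularLocalRing.spanFinrank_maximalIdeal, hn]
  have hx0 : x ≠ 0 := fun h => hx2 (by rw [h]; exact Ideal.zero_mem _)
  haveI : Nontrivial (R ⧸ Ideal.span {x}) := Ideal.Quotient.nontrivial_iff.mpr
    (ne_top_of_le_ne_top (IsLocalRing.maximalIdeal.isMaximal R).ne_top
      ((Ideal.span_singleton_le_iff_mem _).mpr hx))
  haveI : IsLocalRing (R ⧸ Ideal.span {x}) := IsLocalRing.of_surjective' _ Ideal.Quotient.mk_surjective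
  obtain ⟨s, hscard, hspan⟩ := exists_span_insert_eq_maximalIdeal hx hx2
  have hmax : IsLocalRing.maximalIdeal (R ⧸ Ideal.span {x}) =
      Ideal.span ((Ideal.Quotient.mk (Ideal.span {x})) '' (s : Set R)) := by
    have h1 : (IsLocalRing.maximalIdeal R).map (Ideal.Quotient.mk (Ideal.span {x})) =
        IsLocalRing.maximalIdeal (R ⧸ Ideal.span {x}) :=
      IsLocalRing.eq_maximalIdeal (Ideal.IsMaximal.map_of_surjective_of_ker_le Ideal.Quotient.mk_surjective
        (by rw [Ideal.mk_ker]; exact (Ideal.span_singleton_le_iff_mem _).mpr hx))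
    rw [← h1, show IsLocalRing.maximalIdeal R = Ideal.span (insert x (s : Set R)) from hspan.symm,
      Ideal.map_span, Set.image_insert_eq,
      Ideal.Quotient.eq_zero_iff_mem.mpr (Ideal.mem_span_singleton_self x)]
    exact Submodule.span_insert_zero
  have hle : (IsLocalRing.maximalIdeal (R ⧸ Ideal.span {x})).spanFinrank ≤ n := by
    rw [hmax]
    refine (Submodule.spanFinrank_span_le_ncard_of_finite (s.finite_toSet.image _)).trans ?_
    refine (Set.ncard_image_le s.finite_toSet).trans ?_
    rw [Set.ncard_coe_finset]; omega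
  have hdimq : (n : WithBot ℕ∞) = ringKrullDim (R ⧸ Ideal.span {x}) := by
    refine withBot_add_one_cancel ?_
    rw [ringKrullDim_quotient_span_singleton_succ_eq_ringKrullDim
      (fun a b h => mul_left_cancel₀ hx0 h) hx, hdim]
    push_cast
    rfl
  have hreg : IsRegularLocalRing (R ⧸ Ideal.span {x}) :=
    IsRegularLocalRing.of_spanFinrank_maximalIdeal_le _ (le_trans (by exact_mod_cast hle) hdimq.le)
  refine ⟨hreg, le_antisymm hle ?_⟩
  rw [← hreg.spanFinrank_maximalIdeal] at hdimq
  exact_mod_cast hdimq.le

/-- If `R/I` is regular, `I` is generated by part of a regular system of parameters. -/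
theorem exists_regular_system_of_regular_quotient (n : ℕ) :
    ∀ (R : Type u) [CommRing R] [IsRegularLocalRing R] (I : Ideal R),
      (IsLocalRing.maximalIdeal R).spanFinrank = n → IsRegularLocalRing (R ⧸ I) →
      ∃ xs : List R, xs.length = n ∧ Ideal.ofList xs = IsLocalRing.maximalIdeal R ∧
        ∃ c ≤ n, I = Ideal.ofList (xs.take c) := by
  classical
  induction n using Nat.strong_induction_on with
  | _ n ih =>
    intro R _ _ I hn hIreg
    haveI := isDomain_of_isRegularLocalRing R
    set m := IsLocalRing.maximalIdeal R with hm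
    have hfg : m.FG := IsNoetherian.noetherian m
    have hIm : I ≤ m := IsLocalRing.le_maximalIdeal fun h =>
      not_subsingleton (R ⧸ I) (Ideal.Quotient.subsingleton_iff.mpr h)
    by_cases hsq : I ≤ m ^ 2
    · obtain ⟨S, hS, hspan⟩ := exists_lift_generators I
      have hmS : m ≤ Ideal.span (S : Set R) := by
        refine Submodule.le_of_le_smul_of_le_jacobson_bot hfg (IsLocalRing.maximalIdeal_le_jacobson _) ?_
        rw [smul_eq_mul, ← pow_two]
        calc m = Ideal.span (S : Set R) ⊔ I := hspan.symm
          _ ≤ _ := sup_le_sup le_rfl hsq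
      have hne : n ≤ (IsLocalRing.maximalIdeal (R ⧸ I)).spanFinrank := by
        rw [← hn, show m = Ideal.span (S : Set R) from le_antisymm hmS (le_sup_left.trans hspan.le)]
        exact (Submodule.spanFinrank_span_le_ncard_of_finite S.finite_toSet).trans
          (by rw [Set.ncard_coe_finset]; exact hS)
      have hI0 : I = ⊥ := by
        by_contra hne0
        obtain ⟨y, hy, hy0⟩ := Submodule.exists_mem_ne_zero_of_ne_bot hne0
        have h1 := ringKrullDim_succ_le_of_surjective (Ideal.Quotient.mk I) Ideal.Quotient.mk_surjective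
          (mem_nonZeroDivisors_of_ne_zero hy0) (Ideal.Quotient.eq_zero_iff_mem.mpr hy)
        rw [← IsRegularLocalRing.spanFinrank_maximalIdeal (R := R ⧸ I),
          ← IsRegularLocalRing.spanFinrank_maximalIdeal (R := R), hn] at h1
        have h2 : (IsLocalRing.maximalIdeal (R ⧸ I)).spanFinrank + 1 ≤ n := by exact_mod_cast h1
        omega
      refine ⟨(Submodule.FG.finite_generators hfg).toFinset.toList, ?_, ?_, 0, Nat.zero_le _, ?_⟩
      · rw [Finset.length_toList, ← hn, ← Submodule.FG.generators_ncard hfg,
          Set.ncard_eq_toFinset_card _ (Submodule.FG.finite_generators hfg)]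
      · simp [Ideal.ofList, Ideal.span, Submodule.span_generators]
      · simp [hI0]
    · obtain ⟨x, hxI, hx2⟩ := SetLike.not_le_iff_exists.mp hsq
      obtain ⟨k, rfl⟩ : ∃ k, n = k + 1 := Nat.exists_eq_succ_of_ne_zero fun h0 => hsq (by
        rw [h0, Submodule.spanFinrank_eq_zero_iff_eq_bot hfg] at hn
        exact hIm.trans (hn.le.trans bot_le))
      obtain ⟨hreg', hk⟩ := isRegularLocalRing_quotient_singleton hn (hIm hxI) hx2
      have hxle : Ideal.span {x} ≤ I := (Ideal.span_singleton_le_iff_mem _).mpr hxI
      have hq : IsRegularLocalRing ((R ⧸ Ideal.span {x}) ⧸ I.map (Ideal.Quotient.mk (Ideal.span {x}))) :=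
        IsRegularLocalRing.of_ringEquiv
          ((DoubleQuot.quotQuotEquivQuotSup (Ideal.span {x}) I).trans
            (Ideal.quotEquivOfEq (sup_eq_right.mpr hxle))).symm
      obtain ⟨ys, hlen, hys, c, hc, hI'⟩ := ih k (Nat.lt_succ_self k) _ _ hk hq
      let f := Ideal.Quotient.mk (Ideal.span ({x} : Set R))
      let zs := ys.map (Function.surjInv (Ideal.Quotient.mk_surjective (I := Ideal.span ({x} : Set R))))
      have hzs : ∀ j, (zs.take j).map f = ys.take j := fun j => by
        simp [zs, f, ← List.map_take, List.map_map, Function.comp_def, Function.surjInv_eq]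
      have key : ∀ (K : Ideal R) (j : ℕ), Ideal.span {x} ≤ K →
          K.map f = Ideal.ofList (ys.take j) → K = Ideal.ofList (x :: zs.take j) := by
        intro K j hK hj
        rw [← hzs j, ← Ideal.map_ofList] at hj
        have h2 := congrArg (Ideal.comap f) hj
        rw [Ideal.comap_map_of_surjective' _ Ideal.Quotient.mk_surjective,
          Ideal.comap_map_of_surjective' _ Ideal.Quotient.mk_surjective, Ideal.mk_ker,
          sup_eq_left.mpr hK] at h2
        rw [h2, Ideal.ofList_cons, sup_comm]
      refine ⟨x :: zs, by simp [zs, hlen], ?_, c + 1, Nat.succ_le_succ hc, ?_⟩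
      · have hxm : Ideal.span {x} ≤ m := (Ideal.span_singleton_le_iff_mem _).mpr (hIm hxI)
        have hmax : m.map f = Ideal.ofList (ys.take zs.length) := by
          rw [List.take_of_length_le (by simp [zs]), hys]
          exact IsLocalRing.eq_maximalIdeal (Ideal.IsMaximal.map_of_surjective_of_ker_le
            Ideal.Quotient.mk_surjective (by rw [Ideal.mk_ker]; exact hxm))
        simpa using (key m zs.length hxm hmax).symm
      · rw [List.take_succ_cons]
        exact key I c hxle hI'

end Groth.Agent.DepthLib
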