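import Groth.Agent.DepthLib.CMModule
import Groth.Agent.DepthLib.Sk
import Groth.Agent.DepthLib.Sequence

/-!
# Regular sequences after localisation
-/

universe u v

namespace Groth.Agent.DepthLib

open RingTheory.Sequence Submodule Pointwise
open LocCoh

variable {R : Type u} [CommRing R]

/-- `rs` is weakly regular on `S⁻¹M`. -/
def RegOn (S : Submonoid R) (M : Type v) [AddCommGroup M] [Module R M] (rs : List R) : Prop :=
  IsWeaklyRegular (LocalizedModule S M) (rs.map (algebraMap R (Localization S)))

theorem isSMulRegular_localizedModule_iff {M : Type v} [AddCommGroup M] [Module R M] (S : Submonoid R)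
    (x : R) : IsSMulRegular (LocalizedModule S M) (algebraMap R (Localization S) x) ↔
      ∀ m : M, x • m = 0 → ∃ s ∈ S, s • m = 0 := by
  constructor
  · intro h m hm
    have h0 : LocalizedModule.mk m (1 : S) = 0 := h.right_eq_zero_of_smul (by
      rw [← Localization.mk_one_eq_algebraMap, LocalizedModule.mk_smul_mk, one_mul, hm,
        LocalizedModule.zero_mk])
    rw [← LocalizedModule.zero_mk (1 : S), LocalizedModule.mk_eq] at h0
    obtain ⟨v, hv⟩ := h0
    simp only [Submonoid.smul_def, Submonoid.coe_one, one_smul, smul_zero] at hv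
    exact ⟨v, v.2, hv⟩
  · intro h
    refine IsSMulRegular.of_right_eq_zero_of_smul fun z hz => ?_
    induction z using LocalizedModule.induction_on with
    | h m t =>
      rw [← Localization.mk_one_eq_algebraMap, LocalizedModule.mk_smul_mk, one_mul,
        ← LocalizedModule.zero_mk t, LocalizedModule.mk_eq] at hz
      obtain ⟨v, hv⟩ := hz
      simp only [Submonoid.smul_def, smul_zero] at hv
      obtain ⟨s, hs, hsm⟩ := h ((v : R) • (t : R) • m) (by
        rw [smul_comm x (v : R), smul_comm x (t : R), hv])
      rw [← LocalizedModule.zero_mk t, LocalizedModule.mk_eq]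
      exact ⟨⟨s, hs⟩ * v, by simp only [Submonoid.smul_def, smul_zero, Submonoid.coe_mul, mul_smul]; exact hsm⟩

theorem regOn_nil (S : Submonoid R) (M : Type v) [AddCommGroup M] [Module R M] : RegOn S M [] :=
  IsWeaklyRegular.nil _ _

theorem regOn_cons_iff {M : Type v} [AddCommGroup M] [Module R M] (S : Submonoid R) (x : R)
    (rs : List R) :
    RegOn S M (x :: rs) ↔ (∀ m : M, x • m = 0 → ∃ s ∈ S, s • m = 0) ∧ RegOn S (QuotSMulTop x M) rs := by
  rw [RegOn, List.map_cons, isWeaklyRegular_cons_iff, isSMulRegular_localizedModule_iff,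
    (localizedQuotSMulTopEquiv (M := M) S x).isWeaklyRegular_congr]
  rfl

theorem RegOn.mono {S T : Submonoid R} (h : ∀ s ∈ S, ∃ t : R, t * s ∈ T) (rs : List R) :
    ∀ {M : Type v} [AddCommGroup M] [Module R M], RegOn S M rs → RegOn T M rs := by
  induction rs with
  | nil => intro M _ _ _; exact regOn_nil T M
  | cons x rs ih =>
    intro M _ _ hreg
    rw [regOn_cons_iff] at hreg ⊢
    refine ⟨fun m hm => ?_, ih hreg.2⟩
    obtain ⟨s, hs, hsm⟩ := hreg.1 m hm
    obtain ⟨t, ht⟩ := h s hs
    exact ⟨t * s, ht, by rw [mul_smul, hsm, smul_zero]⟩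

/-- Localisation of a linear equivalence. -/
noncomputable def localizedCongr {M N : Type*} [AddCommGroup M] [Module R M] [AddCommGroup N] [Module R N]
    (S : Submonoid R) (e : M ≃ₗ[R] N) : LocalizedModule S M ≃ₗ[Localization S] LocalizedModule S N :=
  LinearEquiv.ofBijective (LocalizedModule.map S e.toLinearMap)
    ⟨LocalizedModule.map_injective _ _ e.injective, LocalizedModule.map_surjective _ _ e.surjective⟩

/-- `S⁻¹M / (rs) S⁻¹M ≅ S⁻¹(M / (rs) M)`. -/
theorem nonempty_localizedQuotListEquiv (S : Submonoid R) (rs : List R) :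
    ∀ (M : Type v) [AddCommGroup M] [Module R M],
      Nonempty ((LocalizedModule S M ⧸ (Ideal.ofList (rs.map (algebraMap R (Localization S))) • ⊤ :
          Submodule (Localization S) (LocalizedModule S M))) ≃ₗ[Localization S]
        LocalizedModule S (M ⧸ (Ideal.ofList rs • ⊤ : Submodule R M))) := by
  induction rs with
  | nil =>
    intro M _ _
    exact ⟨(Submodule.quotEquivOfEqBot _ (by rw [List.map_nil, Ideal.ofList_nil, Submodule.bot_smul])).trans
      (localizedCongr S (Submodule.quotEquivOfEqBot _ (by rw [Ideal.ofList_nil, Submodule.bot_smul])).symm)⟩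
  | cons x rs ih =>
    intro M _ _
    obtain ⟨e⟩ := ih (QuotSMulTop x M)
    refine ⟨(quotOfListConsSMulTopEquivQuotSMulTopInner (LocalizedModule S M)
      (algebraMap R (Localization S) x) (rs.map (algebraMap R (Localization S)))).trans
      ((Submodule.Quotient.equiv _ _ (localizedQuotSMulTopEquiv (M := M) S x) ?_).trans (e.trans
        (localizedCongr S (quotOfListConsSMulTopEquivQuotSMulTopInner M x rs).symm)))⟩
    rw [Submodule.map_smul'', Submodule.map_top, LinearEquiv.range]

variable [IsNoetherianRing R]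

/-- Depth and dimension of `(M/(rs)M)_q`. -/
theorem depth_supportDim_quot_list {M : Type u} [AddCommGroup M] [Module R M] [Module.Finite R M]
    (q : Ideal R) [q.IsPrime] [Nontrivial (LocalizedModule q.primeCompl M)] {rs : List R}
    (hq : ∀ r ∈ rs, r ∈ q) (h : RegOn q.primeCompl M rs) :
    depth (Localization.AtPrime q) (LocalizedModule q.primeCompl (M ⧸ (Ideal.ofList rs • ⊤ : Submodule R M))) +
        rs.length = depth (Localization.AtPrime q) (LocalizedModule q.primeCompl M) ∧
      Module.supportDim (Localization.AtPrime q)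
          (LocalizedModule q.primeCompl (M ⧸ (Ideal.ofList rs • ⊤ : Submodule R M))) + rs.length =
        Module.supportDim (Localization.AtPrime q) (LocalizedModule q.primeCompl M) := by
  obtain ⟨e⟩ := nonempty_localizedQuotListEquiv q.primeCompl rs M
  have hmem : ∀ r ∈ rs.map (algebraMap R (Localization.AtPrime q)),
      r ∈ IsLocalRing.maximalIdeal (Localization.AtPrime q) := by
    intro r hr
    obtain ⟨a, ha, rfl⟩ := List.mem_map.mp hr
    exact (IsLocalization.AtPrime.to_map_mem_maximal_iff (Localization.AtPrime q) q a).mpr (hq a ha)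
  refine ⟨?_, ?_⟩
  · have := idealDepth_quot_ofList_add_length (I := IsLocalRing.maximalIdeal (Localization.AtPrime q))
      (rs.map (algebraMap R (Localization.AtPrime q))) (LocalizedModule q.primeCompl M) h hmem
    rw [List.length_map] at this
    rw [← depth_congr e]
    exact this
  · have := supportDim_quot_ofList_add_length (M := LocalizedModule q.primeCompl M) hmem h
    rw [List.length_map] at this
    rw [← Module.supportDim_eq_of_equiv e]
    exact this

/-- A maximal regular sequence at `p` spreads out to a neighbourhood of `p`. -/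
theorem exists_regOn_of_depth_eq (r : ℕ) : ∀ {M : Type u} [AddCommGroup M] [Module R M] [Module.Finite R M]
    (p : Ideal R) [p.IsPrime], depth (Localization.AtPrime p) (LocalizedModule p.primeCompl M) = r →
    ∃ g ∉ p, ∃ rs : List R, rs.length = r ∧ (∀ a ∈ rs, a ∈ p) ∧
      ∀ T : Submonoid R, (∃ t, t * g ∈ T) → RegOn T M rs := by
  induction r with
  | zero =>
    intro M _ _ _ p hp _
    exact ⟨1, fun h => hp.ne_top ((Ideal.eq_top_iff_one _).mpr h), [], rfl, by simp, fun T _ => regOn_nil T M⟩
  | succ r ih =>
    intro M _ _ _ p _ hdep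
    obtain ⟨y, hy, hyreg⟩ := one_le_idealDepth_iff.mp (show (1 : ℕ∞) ≤
      depth (Localization.AtPrime p) (LocalizedModule p.primeCompl M) by
        rw [hdep]; exact_mod_cast Nat.succ_pos r)
    obtain ⟨⟨a, s⟩, hys⟩ := IsLocalization.surj p.primeCompl y
    have haM : a ∈ p := by
      rw [← IsLocalization.AtPrime.to_map_mem_maximal_iff (Localization.AtPrime p) p, ← hys]
      exact Ideal.mul_mem_right _ _ hy
    have hareg : IsSMulRegular (LocalizedModule p.primeCompl M) (algebraMap R (Localization.AtPrime p) a) := by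
      rw [← hys]
      exact hyreg.mul ((IsLocalization.map_units _ s).isSMulRegular _)
    have hker := (isSMulRegular_localizedModule_iff p.primeCompl a).mp hareg
    obtain ⟨g₁, hg₁, hg₁p⟩ : ∃ g₁, g₁ ∈ Module.annihilator R (LinearMap.ker (LinearMap.lsmul R M a)) ∧ g₁ ∉ p := by
      rw [← SetLike.not_le_iff_exists]
      intro hle
      have hsupp : (⟨p, inferInstance⟩ : PrimeSpectrum R) ∈
          Module.support R (LinearMap.ker (LinearMap.lsmul R M a)) := by
        rw [Module.support_eq_zeroLocus]; exact hle
      rw [Module.mem_support_iff'] at hsupp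
      obtain ⟨⟨m, hm⟩, hm'⟩ := hsupp
      obtain ⟨t, ht, htm⟩ := hker m (LinearMap.mem_ker.mp hm)
      exact hm' t ht (Subtype.ext htm)
    have hdrop := depth_localization_quotSMulTop_add_one p haM hareg
    rw [hdep, Nat.cast_succ] at hdrop
    obtain ⟨g₂, hg₂p, rs, hlen, hrsp, hrs⟩ := ih (M := QuotSMulTop a M) p
      ((ENat.add_left_injective_of_ne_top ENat.one_ne_top) hdrop)
    refine ⟨g₁ * g₂, fun h => ((‹p.IsPrime›).mem_or_mem h).elim hg₁p hg₂p, a :: rs, by simp [hlen],
      by simpa using ⟨haM, hrsp⟩, fun T ⟨t, ht⟩ => (regOn_cons_iff T a rs).mpr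
        ⟨fun m hm => ⟨_, ht, ?_⟩, hrs T ⟨t * g₁, by rwa [mul_assoc]⟩⟩⟩
    have h0 := congrArg Subtype.val (Module.mem_annihilator.mp hg₁ ⟨m, LinearMap.mem_ker.mpr hm⟩)
    simp only [SetLike.val_smul, ZeroMemClass.coe_zero] at h0
    rw [mul_comm g₁ g₂, ← mul_assoc, mul_smul, h0, smul_zero]

end Groth.Agent.DepthLib
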