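import Groth.Agent.DepthLib.Ext
import Groth.Agent.DepthLib.Sk

/-!
# Depth of kernels; supports of localisations
-/

universe u v w

namespace Groth.Agent.DepthLib

open RingTheory.Sequence Submodule Pointwise
open LocCoh

variable {R : Type u} [CommRing R] {I : Ideal R}

theorem one_le_idealDepth_of_injective {M : Type v} [AddCommGroup M] [Module R M] [Module.Finite R M]
    {N : Type w} [AddCommGroup N] [Module R N] [Module.Finite R N] (f : M →ₗ[R] N)
    (hf : Function.Injective f) (h : 1 ≤ idealDepth I N) : 1 ≤ idealDepth I M := by
  obtain ⟨x, hx, hreg⟩ := one_le_idealDepth_iff.mp h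
  exact one_le_idealDepth_iff.mpr ⟨x, hx, hreg.of_injective f hf⟩

theorem two_le_idealDepth_of_exact [IsNoetherianRing R] {M N P : Type u} [AddCommGroup M] [Module R M]
    [Module.Finite R M] [AddCommGroup N] [Module R N] [Module.Finite R N] [AddCommGroup P] [Module R P]
    [Module.Finite R P] (f : M →ₗ[R] N) (g : N →ₗ[R] P) (hf : Function.Injective f)
    (hfg : Function.Exact f g) (h₂ : 2 ≤ idealDepth I N) (h₃ : 1 ≤ idealDepth I P) :
    2 ≤ idealDepth I M := by
  have h3' : 1 ≤ idealDepth I (LinearMap.range g) :=
    one_le_idealDepth_of_injective _ (Submodule.injective_subtype _) h₃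
  exact_mod_cast natCast_le_idealDepth_left (n := 1) (f := f) (g := g.rangeRestrict) hf
    g.surjective_rangeRestrict
    (LinearMap.exact_iff.mpr (by rw [LinearMap.ker_rangeRestrict]; exact hfg.linearMap_ker_eq))
    (by exact_mod_cast h₂) (by exact_mod_cast h3')

variable {M : Type v} [AddCommGroup M] [Module R M] {N : Type w} [AddCommGroup N] [Module R N]

/-- Inclusion of supports is inherited by localisations. -/
theorem support_localization_mono [IsNoetherianRing R] [Module.Finite R M] [Module.Finite R N]
    (h : Module.support R M ⊆ Module.support R N) (p : Ideal R) [p.IsPrime] :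
    Module.support (Localization.AtPrime p) (LocalizedModule p.primeCompl M) ⊆
      Module.support (Localization.AtPrime p) (LocalizedModule p.primeCompl N) := by
  intro q hq
  obtain ⟨a, ha, hle⟩ := exists_associatedPrime_le_of_mem_support hq
  haveI := IsAssociatedPrime.isPrime ha
  obtain ⟨b, hb, hbl⟩ := exists_associatedPrime_le_of_mem_support
    (h (mem_support_of_mem_associatedPrimes ((mem_associatedPrimes_localization_iff p a).mp ha)))
  haveI := IsAssociatedPrime.isPrime hb
  change b ≤ a.comap (algebraMap R (Localization.AtPrime p)) at hbl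
  have hbp : b ≤ p := hbl.trans ((Ideal.comap_mono (IsLocalRing.le_maximalIdeal
    (IsAssociatedPrime.isPrime ha).ne_top)).trans Localization.AtPrime.under_maximalIdeal.le)
  have hb' : b.map (algebraMap R (Localization.AtPrime p)) ∈
      associatedPrimes (Localization.AtPrime p) (LocalizedModule p.primeCompl N) := by
    rw [mem_associatedPrimes_localization_iff]
    have hcm : (b.map (algebraMap R (Localization.AtPrime p))).comap
        (algebraMap R (Localization.AtPrime p)) = b :=
      IsLocalization.comap_map_of_isPrime_disjoint p.primeCompl (Localization.AtPrime p) ‹_›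
        (Set.disjoint_left.mpr fun x hx hx' => hx (hbp hx'))
    rw [hcm]
    exact hb
  rw [Module.support_eq_zeroLocus, PrimeSpectrum.mem_zeroLocus, SetLike.coe_subset_coe]
  exact (annihilator_le_of_mem_associatedPrimes hb').trans ((Ideal.map_le_iff_le_comap.mpr hbl).trans hle)

theorem supportDim_mono_of_support_subset (h : Module.support R M ⊆ Module.support R N) :
    Module.supportDim R M ≤ Module.supportDim R N :=
  Order.krullDim_le_of_strictMono (fun a => ⟨a.1, h a.2⟩) (fun _ _ hlt => hlt)

theorem hasSk_congr {k : ℕ} (e : M ≃ₗ[R] N) (h : HasSk k R M) : HasSk k R N := by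
  intro p _
  let e' := LinearEquiv.ofBijective (LocalizedModule.map p.primeCompl e.toLinearMap)
    ⟨LocalizedModule.map_injective _ _ e.injective, LocalizedModule.map_surjective _ _ e.surjective⟩
  rw [← Module.supportDim_eq_of_equiv e', ← depth_congr e']
  exact h p

end Groth.Agent.DepthLib
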