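import Groth.Agent.DepthLib.RegularQuotient

/-!
# Regular quotients by ideals with `J ∩ m² ⊆ mJ`
-/

universe u

namespace Groth.Agent.DepthLib

/-- If `J ∩ m² ⊆ mJ` in a regular local ring `R`, then `R/J` is regular. -/
theorem isRegularLocalRing_quotient_of_inf_sq_le (n : ℕ) :
    ∀ (R : Type u) [CommRing R] [IsRegularLocalRing R] (J : Ideal R),
      (IsLocalRing.maximalIdeal R).spanFinrank = n → J ≤ IsLocalRing.maximalIdeal R →
      J ⊓ IsLocalRing.maximalIdeal R ^ 2 ≤ IsLocalRing.maximalIdeal R * J →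
      IsRegularLocalRing (R ⧸ J) := by
  induction n with
  | zero =>
    intro R _ _ J hn hJ _
    have hbot : IsLocalRing.maximalIdeal R = ⊥ :=
      (Submodule.spanFinrank_eq_zero_iff_eq_bot (IsNoetherian.noetherian _)).mp hn
    obtain rfl : J = ⊥ := le_bot_iff.mp (hJ.trans hbot.le)
    exact IsRegularLocalRing.of_ringEquiv (RingEquiv.quotientBot R).symm
  | succ n ih =>
    intro R _ _ J hn hJ hcap
    by_cases hsq : J ≤ IsLocalRing.maximalIdeal R ^ 2
    · have h0 : J = ⊥ := Submodule.eq_bot_of_le_smul_of_le_jacobson_bot (IsLocalRing.maximalIdeal R) J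
        (IsNoetherian.noetherian J) ((le_inf le_rfl hsq).trans hcap) (IsLocalRing.maximalIdeal_le_jacobson _)
      subst h0
      exact IsRegularLocalRing.of_ringEquiv (RingEquiv.quotientBot R).symm
    obtain ⟨x, hxJ, hx2⟩ := SetLike.not_le_iff_exists.mp hsq
    obtain ⟨hreg, hrank⟩ := isRegularLocalRing_quotient_singleton hn (hJ hxJ) hx2
    have hmap : (IsLocalRing.maximalIdeal R).map (Ideal.Quotient.mk (Ideal.span {x})) =
        IsLocalRing.maximalIdeal (R ⧸ Ideal.span {x}) :=
      IsLocalRing.eq_maximalIdeal (Ideal.IsMaximal.map_of_surjective_of_ker_le Ideal.Quotient.mk_surjective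
        (by rw [Ideal.mk_ker]; exact (Ideal.span_singleton_le_iff_mem _).mpr (hJ hxJ)))
    have hxJ' : Ideal.span {x} ≤ J := (Ideal.span_singleton_le_iff_mem _).mpr hxJ
    have hq := ih (R ⧸ Ideal.span {x}) (J.map (Ideal.Quotient.mk _)) hrank
      (hmap ▸ Ideal.map_mono hJ) (by
        rintro z ⟨hzJ, hz2⟩
        obtain ⟨y, hy, rfl⟩ := (Ideal.mem_map_iff_of_surjective _ Ideal.Quotient.mk_surjective).mp hzJ
        rw [← hmap, ← Ideal.map_pow] at hz2
        obtain ⟨y', hy', hyy⟩ := (Ideal.mem_map_iff_of_surjective _ Ideal.Quotient.mk_surjective).mp hz2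
        have hd : y' - y ∈ Ideal.span {x} := Ideal.Quotient.eq.mp hyy
        have hy'J : y' ∈ J := by simpa using add_mem (hxJ' hd) hy
        rw [← hmap, ← Ideal.map_mul, ← hyy]
        exact Ideal.mem_map_of_mem _ (hcap ⟨hy'J, hy'⟩))
    exact IsRegularLocalRing.of_ringEquiv
      ((DoubleQuot.quotQuotEquivQuotSup (Ideal.span {x}) J).trans
        (Ideal.quotEquivOfEq (sup_eq_right.mpr hxJ')))

end Groth.Agent.DepthLib
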