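import Groth.Agent.DepthLib.Reduced
import Mathlib.RingTheory.DiscreteValuationRing.TFAE
import Mathlib.RingTheory.Localization.LocalizationLocalization
import Mathlib.RingTheory.Localization.FractionRing
import Mathlib.RingTheory.IntegralClosure.IntegrallyClosed
import Mathlib.RingTheory.IntegralClosure.Algebra.Basic
import Mathlib.RingTheory.Ideal.KrullsHeightTheorem

/-!
# Serre's criterion for normality
-/

universe u

namespace Groth.Agent.DepthLib

open RingTheory.Sequence Submodule Pointwise
open LocCoh

section Local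

variable {A : Type u} [CommRing A] [IsLocalRing A] [IsNoetherianRing A]

theorem notMem_associatedPrimes_quotient_of_two_le_depth (h : 2 ≤ depth A A) {x : A}
    (hx : x ∈ IsLocalRing.maximalIdeal A) (hreg : IsSMulRegular A x) :
    IsLocalRing.maximalIdeal A ∉ associatedPrimes A (QuotSMulTop x A) := by
  rw [← depth_eq_zero_iff]
  intro h0
  have := idealDepth_quotSMulTop_add_one (I := IsLocalRing.maximalIdeal A) (M := A) hx hreg
  rw [show idealDepth (IsLocalRing.maximalIdeal A) (QuotSMulTop x A) = 0 from h0, zero_add] at this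
  rw [depth, ← this] at h
  exact absurd h (by norm_num)

theorem mem_span_singleton_of_forall_nonmax (h : 2 ≤ depth A A) {x y : A}
    (hx : x ∈ IsLocalRing.maximalIdeal A) (hreg : IsSMulRegular A x)
    (hloc : ∀ (Q : Ideal A) [Q.IsPrime], Q ≠ IsLocalRing.maximalIdeal A →
      ∃ t ∉ Q, t * y ∈ Ideal.span {x}) : y ∈ Ideal.span {x} := by
  have e : (x • (⊤ : Submodule A A)) = Ideal.span {x} := by
    rw [← Submodule.ideal_span_singleton_smul, smul_eq_mul, Ideal.mul_top]
  by_contra hy
  obtain ⟨Q, hQ, hle⟩ := exists_le_isAssociatedPrime_of_isNoetherianRing A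
    (Submodule.Quotient.mk (p := x • (⊤ : Submodule A A)) y)
    (by rw [ne_eq, Submodule.Quotient.mk_eq_zero, e]; exact hy)
  haveI := IsAssociatedPrime.isPrime hQ
  obtain ⟨t, htQ, ht⟩ := hloc Q fun hQm =>
    notMem_associatedPrimes_quotient_of_two_le_depth h hx hreg (hQm ▸ hQ)
  refine htQ (hle ?_)
  rw [Submodule.mem_colon_singleton, Submodule.mem_bot, ← Submodule.Quotient.mk_smul,
    Submodule.Quotient.mk_eq_zero, e]
  exact ht

/-- A Noetherian local ring of depth at least two whose other localisations are domains is a domain. -/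
theorem isDomain_of_two_le_depth (h : 2 ≤ depth A A)
    (hloc : ∀ (Q : Ideal A) [Q.IsPrime], Q ≠ IsLocalRing.maximalIdeal A →
      IsDomain (Localization.AtPrime Q)) : IsDomain A := by
  haveI : NoZeroDivisors A := by
    refine ⟨fun {α β} hαβ => ?_⟩
    by_contra hne
    push Not at hne
    obtain ⟨hα, hβ⟩ := hne
    let a : Ideal A := (⊥ : Ideal A).colon {β}
    let b : Ideal A := (⊥ : Ideal A).colon (a : Set A)
    have ha : ∀ r, r ∈ a ↔ r * β = 0 := fun r => by
      simp [a, Submodule.mem_colon_singleton, smul_eq_mul]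
    have hb : ∀ r, r ∈ b ↔ ∀ s ∈ a, r * s = 0 := fun r => by
      show r ∈ (⊥ : Ideal A).colon (a : Set A) ↔ _
      rw [Submodule.mem_colon]
      exact forall₂_congr fun s _ => by simp [smul_eq_mul]
    have hsplit : ∀ (Q : Ideal A) [Q.IsPrime], Q ≠ IsLocalRing.maximalIdeal A →
        (∃ t ∈ a, t ∉ Q) ∨ (∃ t ∈ b, t ∉ Q) := by
      intro Q _ hQ
      haveI := hloc Q hQ
      by_cases hβ0 : algebraMap A (Localization.AtPrime Q) β = 0
      · obtain ⟨⟨t, ht⟩, htβ⟩ := (IsLocalization.map_eq_zero_iff Q.primeCompl (Localization.AtPrime Q) β).mp hβ0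
        exact Or.inl ⟨t, (ha t).mpr htβ, ht⟩
      · obtain ⟨s, hs⟩ := IsNoetherian.noetherian a
        have hs' : ∀ g : s, ∃ t : Q.primeCompl, (t : A) * g.1 = 0 := fun g => by
          refine (IsLocalization.map_eq_zero_iff Q.primeCompl (Localization.AtPrime Q) g.1).mp ?_
          have : g.1 * β = 0 := (ha _).mp (hs ▸ Submodule.subset_span g.2)
          have h2 := congrArg (algebraMap A (Localization.AtPrime Q)) this
          rw [map_mul, map_zero] at h2
          exact (mul_eq_zero.mp h2).resolve_right hβ0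
        choose t ht using hs'
        refine Or.inr ⟨((∏ g, t g : Q.primeCompl) : A), (hb _).mpr fun r hr => ?_, (∏ g, t g).2⟩
        rw [← hs] at hr
        induction hr using Submodule.span_induction with
        | mem g hg =>
          obtain ⟨c, hc⟩ := Finset.dvd_prod_of_mem t (Finset.mem_univ ⟨g, hg⟩)
          rw [hc, Submonoid.coe_mul, mul_comm (t ⟨g, hg⟩ : A), mul_assoc, ht ⟨g, hg⟩, mul_zero]
        | zero => simp
        | add u v _ _ hu hv => rw [mul_add, hu, hv, add_zero]
        | smul c u _ hu => rw [smul_eq_mul, mul_left_comm, hu, mul_zero]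
    obtain ⟨x, hxmem, hxreg⟩ := (one_le_idealDepth_iff (I := (a ⊔ b) ⊓ IsLocalRing.maximalIdeal A) (M := A)).mp (by
      rw [one_le_idealDepth_iff_forall_associatedPrimes]
      intro Q hQ hle
      haveI := IsAssociatedPrime.isPrime hQ
      have hQm : Q ≠ IsLocalRing.maximalIdeal A := fun hQm => by
        rw [hQm, ← depth_eq_zero_iff] at hQ
        rw [hQ] at h
        exact absurd h (by norm_num)
      obtain ⟨y, hym, hyQ⟩ := SetLike.exists_of_lt
        (lt_of_le_of_ne (IsLocalRing.le_maximalIdeal (IsAssociatedPrime.isPrime hQ).ne_top) hQm)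
      rcases hsplit Q hQm with ⟨t, hta, htQ⟩ | ⟨t, htb, htQ⟩
      · exact ((IsAssociatedPrime.isPrime hQ).mem_or_mem (hle ⟨Ideal.mul_mem_right _ _ (Ideal.mem_sup_left hta),
          Ideal.mul_mem_left _ _ hym⟩)).elim htQ hyQ
      · exact ((IsAssociatedPrime.isPrime hQ).mem_or_mem (hle ⟨Ideal.mul_mem_right _ _ (Ideal.mem_sup_right htb),
          Ideal.mul_mem_left _ _ hym⟩)).elim htQ hyQ)
    obtain ⟨hxab, hxm⟩ := hxmem
    obtain ⟨α', hα', β', hβ', rfl⟩ := Submodule.mem_sup.mp hxab
    have hzero : α' * β' = 0 := by rw [mul_comm]; exact (hb β').mp hβ' α' hα'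
    have hin : α' ∈ Ideal.span {α' + β'} := mem_span_singleton_of_forall_nonmax h hxm hxreg fun Q _ hQ => by
      rcases hsplit Q hQ with ⟨t, hta, htQ⟩ | ⟨t, htb, htQ⟩
      · refine ⟨t, htQ, ?_⟩
        have : t * β' = 0 := by rw [mul_comm]; exact (hb β').mp hβ' t hta
        exact Ideal.mem_span_singleton'.mpr ⟨t, by rw [mul_add, this, add_zero]⟩
      · exact ⟨t, htQ, by rw [(hb t).mp htb α' hα']; exact Submodule.zero_mem _⟩
    obtain ⟨e, he⟩ := Ideal.mem_span_singleton'.mp hin
    have hβe : β' = (1 - e) * (α' + β') := by rw [sub_mul, he]; ring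
    have hee : e * (1 - e) = 0 := by
      apply hxreg.right_eq_zero_of_smul
      apply hxreg.right_eq_zero_of_smul
      rw [smul_eq_mul, smul_eq_mul]
      calc (α' + β') * ((α' + β') * (e * (1 - e)))
          = (e * (α' + β')) * ((1 - e) * (α' + β')) := by ring
        _ = 0 := by rw [he, ← hβe, hzero]
    rcases IsLocalRing.isUnit_or_isUnit_one_sub_self e with hu | hu
    · have h1e : (1 - e) = 0 := (hu.mul_right_eq_zero).mp hee
      have hxa : α' + β' ∈ a := by
        rw [hβe, h1e, zero_mul, add_zero]; exact hα'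
      exact hβ (hxreg.right_eq_zero_of_smul ((ha _).mp hxa))
    · have he0 : e = 0 := (hu.mul_left_eq_zero).mp hee
      have hα0 : α' = 0 := by rw [← he, he0, zero_mul]
      rw [hα0, zero_add] at hxreg
      refine hα (hxreg.right_eq_zero_of_smul ?_)
      rw [smul_eq_mul]
      exact (hb β').mp hβ' α ((ha α).mpr hαβ)
  exact NoZeroDivisors.to_isDomain A

/-- With normal domain localisations and depth at least two, a local domain is integrally closed. -/
theorem isIntegrallyClosed_of_two_le_depth [IsDomain A] (h : 2 ≤ depth A A)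
    (hloc : ∀ (Q : Ideal A) [Q.IsPrime], Q ≠ IsLocalRing.maximalIdeal A →
      IsIntegrallyClosed (Localization.AtPrime Q)) : IsIntegrallyClosed A := by
  rw [isIntegrallyClosed_iff (FractionRing A)]
  intro z hz
  obtain ⟨y, x, hx0, rfl⟩ := IsFractionRing.div_surjective A z
  have hx0' : x ≠ 0 := nonZeroDivisors.ne_zero hx0
  suffices hy : y ∈ Ideal.span {x} by
    obtain ⟨c, rfl⟩ := Ideal.mem_span_singleton'.mp hy
    refine ⟨c, ?_⟩
    rw [map_mul, mul_div_assoc, div_self (by simpa using hx0'), mul_one]
  by_cases hxm : x ∈ IsLocalRing.maximalIdeal A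
  · refine mem_span_singleton_of_forall_nonmax h hxm (fun a b hab => mul_left_cancel₀ hx0' hab)
      fun Q _ hQ => ?_
    haveI := hloc Q hQ
    let K' := FractionRing (Localization.AtPrime Q)
    have hinj : Function.Injective (IsScalarTower.toAlgHom A A K' |>.toRingHom) := by
      show Function.Injective (algebraMap A K')
      rw [IsScalarTower.algebraMap_eq A (Localization.AtPrime Q) K', RingHom.coe_comp]
      exact (IsFractionRing.injective _ K').comp
        (IsLocalization.injective (Localization.AtPrime Q) Q.primeCompl_le_nonZeroDivisors)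
    let φ : FractionRing A →ₐ[A] K' := IsFractionRing.liftAlgHom hinj
    have hint : IsIntegral (Localization.AtPrime Q) (φ (algebraMap A _ y / algebraMap A _ x)) :=
      (hz.map φ).tower_top
    obtain ⟨w, hw⟩ := (isIntegrallyClosed_iff K').mp inferInstance hint
    obtain ⟨⟨c, ⟨t, ht⟩⟩, rfl⟩ := IsLocalization.mk'_surjective Q.primeCompl w
    refine ⟨t, ht, Ideal.mem_span_singleton'.mpr ⟨c, ?_⟩⟩
    apply hinj
    show algebraMap A K' (c * x) = algebraMap A K' (t * y)
    have hx' : algebraMap A K' x ≠ 0 := fun h0 => hx0' (hinj (by simpa using h0))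
    rw [map_div₀, AlgHom.commutes, AlgHom.commutes, eq_div_iff hx'] at hw
    have hs := IsLocalization.mk'_spec (Localization.AtPrime Q) c (⟨t, ht⟩ : Q.primeCompl)
    have hs' := congrArg (algebraMap (Localization.AtPrime Q) K') hs
    rw [map_mul, ← IsScalarTower.algebraMap_apply, ← IsScalarTower.algebraMap_apply] at hs'
    rw [map_mul, map_mul, ← hs', ← hw]
    ring
  · obtain ⟨u, hu⟩ := (IsLocalRing.notMem_maximalIdeal.mp hxm).exists_left_inv
    exact Ideal.mem_span_singleton'.mpr ⟨y * u, by rw [mul_assoc, hu, mul_one]⟩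

/-- A normal local domain of dimension at least two has depth at least two. -/
theorem two_le_depth_of_isIntegrallyClosed [IsDomain A] [IsIntegrallyClosed A]
    (hdim : 1 < ringKrullDim A) : 2 ≤ depth A A := by
  have hnf : ¬ IsField A := fun hf => by rw [ringKrullDim_eq_zero_of_isField hf] at hdim; exact absurd hdim (not_lt.mpr zero_le_one)
  obtain ⟨x, hxm, hx0⟩ := Submodule.exists_mem_ne_zero_of_ne_bot
    (mt IsLocalRing.isField_iff_maximalIdeal_eq.mpr hnf)
  have hreg : IsSMulRegular A x := fun a b hab => mul_left_cancel₀ hx0 hab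
  rw [depth, ← idealDepth_quotSMulTop_add_one hxm hreg]
  refine (le_of_eq (by norm_num : (2 : ℕ∞) = 1 + 1)).trans (add_le_add ?_ le_rfl)
  rw [Order.one_le_iff_pos, pos_iff_ne_zero]
  intro h0
  obtain ⟨-, z, hz⟩ := isAssociatedPrime_iff.mp (depth_eq_zero_iff.mp h0)
  obtain ⟨y, rfl⟩ := Submodule.Quotient.mk_surjective _ z
  have e : (x • (⊤ : Submodule A A)) = Ideal.span {x} := by
    rw [← Submodule.ideal_span_singleton_smul, smul_eq_mul, Ideal.mul_top]
  have hy : ∀ a, a ∈ IsLocalRing.maximalIdeal A ↔ a * y ∈ Ideal.span {x} := fun a => by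
    rw [hz, Submodule.mem_colon_singleton, Submodule.mem_bot, ← Submodule.Quotient.mk_smul,
      Submodule.Quotient.mk_eq_zero, e, smul_eq_mul]
  have hynot : y ∉ Ideal.span {x} := fun h' =>
    (IsLocalRing.maximalIdeal.isMaximal A).ne_top
      (eq_top_iff.mpr fun a _ => (hy a).mpr (Ideal.mul_mem_left _ _ h'))
  choose v hv using fun a (ha : a ∈ IsLocalRing.maximalIdeal A) => Ideal.mem_span_singleton'.mp ((hy a).mp ha)
  by_cases hcase : ∀ a (ha : a ∈ IsLocalRing.maximalIdeal A), v a ha ∈ IsLocalRing.maximalIdeal A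
  · let K := FractionRing A
    let q : K := algebraMap A K y / algebraMap A K x
    have hxK : algebraMap A K x ≠ 0 := by simpa using hx0
    have hint : IsIntegral A q := by
      refine isIntegral_of_smul_mem_submodule (M := K)
        (Submodule.map (Algebra.linearMap A K) (IsLocalRing.maximalIdeal A)) ?_
        ((IsNoetherian.noetherian _).map _) q ?_
      · rw [Submodule.ne_bot_iff]
        exact ⟨_, Submodule.mem_map_of_mem hxm, hxK⟩
      · rintro _ ⟨a, ha, rfl⟩
        refine ⟨v a ha, hcase a ha, ?_⟩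
        simp only [Algebra.linearMap_apply, q, smul_eq_mul]
        rw [div_mul_eq_mul_div, eq_div_iff hxK, ← map_mul, ← map_mul, hv a ha, mul_comm]
    obtain ⟨c, hc⟩ := (isIntegrallyClosed_iff K).mp inferInstance hint
    refine hynot (Ideal.mem_span_singleton'.mpr ⟨c, IsFractionRing.injective A K ?_⟩)
    rw [map_mul, hc, div_mul_cancel₀ _ hxK]
  · push Not at hcase
    obtain ⟨a, ha, hu⟩ := hcase
    rw [IsLocalRing.notMem_maximalIdeal] at hu
    obtain ⟨w, hw⟩ := hu.exists_left_inv
    have hprin : IsLocalRing.maximalIdeal A = Ideal.span {a} := by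
      refine le_antisymm (fun b hb => ?_) ((Ideal.span_singleton_le_iff_mem _).mpr ha)
      refine Ideal.mem_span_singleton'.mpr ⟨w * v b hb, ?_⟩
      apply mul_left_cancel₀ hx0
      calc x * (w * v b hb * a) = (v b hb * x) * (w * a) := by ring
        _ = (a * y) * (w * b) := by rw [hv b hb]; ring
        _ = (v a ha * x) * (w * b) := by rw [hv a ha]
        _ = (w * v a ha) * (x * b) := by ring
        _ = x * b := by rw [hw, one_mul]
    have hh := Ideal.height_le_one_of_isPrincipal_of_mem_minimalPrimes (Ideal.span {a})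
      (IsLocalRing.maximalIdeal A) ⟨⟨inferInstance, hprin.ge⟩, fun J hJ _ => hprin.le.trans hJ.2⟩
    rw [← IsLocalRing.maximalIdeal_height_eq_ringKrullDim] at hdim
    exact absurd (WithBot.coe_le_coe.mpr hh) (not_le.mpr hdim)

theorem isIntegrallyClosed_of_isRegularLocalRing_of_dim_le_one [IsRegularLocalRing A]
    (hdim : ringKrullDim A ≤ 1) : IsDomain A ∧ IsIntegrallyClosed A := by
  haveI := isDomain_of_isRegularLocalRing A
  refine ⟨‹_›, ?_⟩
  by_cases hf : IsField A
  · letI := hf.toField
    infer_instance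
  · rw [← IsRegularLocalRing.spanFinrank_maximalIdeal] at hdim
    have hle : (IsLocalRing.maximalIdeal A).spanFinrank ≤ 1 := by exact_mod_cast hdim
    have hprin : (IsLocalRing.maximalIdeal A).IsPrincipal := by
      rcases Nat.le_one_iff_eq_zero_or_eq_one.mp hle with h0 | h1
      · exact absurd (IsLocalRing.isField_iff_maximalIdeal_eq.mpr
          ((Submodule.spanFinrank_eq_zero_iff_eq_bot (IsNoetherian.noetherian _)).mp h0)) hf
      · exact ((Submodule.spanFinrank_eq_one_iff _).mp h1).1
    have h43 := (tfae_of_isNoetherianRing_of_isLocalRing_of_isDomain A).out 4 3 rfl rfl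
    exact (h43.mp hprin).1

theorem isRegularLocalRing_of_isIntegrallyClosed [IsDomain A] [IsIntegrallyClosed A]
    (hdim : ringKrullDim A ≤ 1) : IsRegularLocalRing A := by
  have h : IsPrincipalIdealRing A := by
    refine ((tfae_of_isNoetherianRing_of_isLocalRing_of_isDomain A).out 3 0 rfl rfl).mp
      ⟨inferInstance, fun P hP hPp => ?_⟩
    by_contra hne
    have h1 := ringKrullDim_quotient_succ_le (p := (⊥ : Ideal A)) (q := P) bot_le
      (x := (Submodule.exists_mem_ne_zero_of_ne_bot hP).choose)
      (by simpa using (Submodule.exists_mem_ne_zero_of_ne_bot hP).choose_spec.2)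
      (Submodule.exists_mem_ne_zero_of_ne_bot hP).choose_spec.1
    obtain ⟨y, hy, hyP⟩ := SetLike.exists_of_lt (lt_of_le_of_ne (IsLocalRing.le_maximalIdeal hPp.ne_top) hne)
    haveI : Nontrivial (A ⧸ IsLocalRing.maximalIdeal A) :=
      Ideal.Quotient.nontrivial_iff.mpr (IsLocalRing.maximalIdeal.isMaximal A).ne_top
    have h2 := ringKrullDim_quotient_succ_le (p := P) (IsLocalRing.le_maximalIdeal hPp.ne_top) hyP hy
    have h4 : ((2 : ℕ) : WithBot ℕ∞) ≤ ((1 : ℕ) : WithBot ℕ∞) := by
      calc ((2 : ℕ) : WithBot ℕ∞) = 0 + 1 + 1 := by norm_num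
        _ ≤ ringKrullDim (A ⧸ IsLocalRing.maximalIdeal A) + 1 + 1 :=
          add_le_add (add_le_add ringKrullDim_nonneg_of_nontrivial le_rfl) le_rfl
        _ ≤ ringKrullDim (A ⧸ P) + 1 := add_le_add h2 le_rfl
        _ ≤ ringKrullDim (A ⧸ (⊥ : Ideal A)) := h1
        _ = ringKrullDim A := (RingEquiv.quotientBot A).ringKrullDim
        _ ≤ _ := hdim.trans (by norm_num)
    exact absurd (Nat.cast_le.mp h4) (by norm_num)
  infer_instance

end Local

end Groth.Agent.DepthLib

namespace Groth.Agent.DepthLib

open LocCoh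

variable {R : Type u} [CommRing R] [IsNoetherianRing R]

theorem hasRk_one_hasSk_two_of_normal
    (h : ∀ (p : Ideal R) [p.IsPrime], IsDomain (Localization.AtPrime p) ∧
      IsIntegrallyClosed (Localization.AtPrime p)) : HasRk 1 R ∧ HasSk 2 R R := by
  refine ⟨fun p _ hp => ?_, fun p _ => ?_⟩
  · obtain ⟨hd, hi⟩ := h p
    refine isRegularLocalRing_of_isIntegrallyClosed ?_
    rw [IsLocalization.AtPrime.ringKrullDim_eq_height p]
    exact (WithBot.coe_le_coe.mpr hp).trans_eq (by norm_num)
  · obtain ⟨hd, hi⟩ := h p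
    rw [depth_localization_self, supportDim_localization_self]
    by_cases hdim : 1 < ringKrullDim (Localization.AtPrime p)
    · exact (min_le_left _ _).trans (WithBot.coe_le_coe.mpr (two_le_depth_of_isIntegrallyClosed hdim))
    · rw [not_lt, IsLocalization.AtPrime.ringKrullDim_eq_height p] at hdim
      refine (min_le_right _ _).trans ?_
      by_cases h0 : depth (Localization.AtPrime p) (Localization.AtPrime p) = 0
      · haveI : IsReduced (Localization.AtPrime p) := inferInstance
        rw [h0, height_eq_zero_of_isField_localization p (isField_of_depth_eq_zero h0)]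
      · exact hdim.trans (WithBot.coe_le_coe.mpr
          (Order.one_le_iff_pos.mpr (pos_iff_ne_zero.mpr h0)))

theorem normal_of_hasRk_one_hasSk_two (hR : HasRk 1 R) (hS : HasSk 2 R R) (p : Ideal R) [p.IsPrime] :
    IsDomain (Localization.AtPrime p) ∧ IsIntegrallyClosed (Localization.AtPrime p) := by
  have key : ∀ (P : PrimeSpectrum R), IsDomain (Localization.AtPrime P.asIdeal) ∧
      IsIntegrallyClosed (Localization.AtPrime P.asIdeal) := by
    intro P
    induction hn : P.asIdeal.height using WellFoundedLT.induction generalizing P with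
    | _ n ih =>
    subst hn
    by_cases hh : P.asIdeal.height ≤ 1
    · haveI := hR P.asIdeal hh
      refine isIntegrallyClosed_of_isRegularLocalRing_of_dim_le_one ?_
      rw [IsLocalization.AtPrime.ringKrullDim_eq_height P.asIdeal]
      exact (WithBot.coe_le_coe.mpr hh).trans_eq (by norm_num)
    · have hd := hS P.asIdeal
      rw [depth_localization_self, supportDim_localization_self, min_eq_left] at hd
      swap
      · exact WithBot.coe_le_coe.mpr ((le_of_eq (by norm_num : ((2 : ℕ) : ℕ∞) = 1 + 1)).trans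
          (Order.add_one_le_of_lt (not_le.mp hh)))
      have hd' : 2 ≤ depth (Localization.AtPrime P.asIdeal) (Localization.AtPrime P.asIdeal) :=
        WithBot.coe_le_coe.mp hd
      have hloc : ∀ (Q : Ideal (Localization.AtPrime P.asIdeal)) [Q.IsPrime],
          Q ≠ IsLocalRing.maximalIdeal (Localization.AtPrime P.asIdeal) →
          IsDomain (Localization.AtPrime Q) ∧ IsIntegrallyClosed (Localization.AtPrime Q) := by
        intro Q _ hQ
        let q : PrimeSpectrum R := ⟨Q.comap (algebraMap R (Localization.AtPrime P.asIdeal)), inferInstance⟩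
        have hqP : q < P := lt_of_le_of_ne
          ((Ideal.comap_mono (IsLocalRing.le_maximalIdeal Ideal.IsPrime.ne_top')).trans
            Localization.AtPrime.under_maximalIdeal.le : q.asIdeal ≤ P.asIdeal) (fun he => hQ (by
            rw [← IsLocalization.map_under P.asIdeal.primeCompl (Localization.AtPrime P.asIdeal) Q,
              show Q.under R = P.asIdeal from congrArg PrimeSpectrum.asIdeal he,
              Localization.AtPrime.map_eq_maximalIdeal]))
        obtain ⟨hd1, hd2⟩ := ih _ (Ideal.height_strict_mono_of_isPrime (show q.asIdeal < P.asIdeal from hqP)) q rfl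
        let e := (IsLocalization.localizationLocalizationAtPrimeIsoLocalization P.asIdeal.primeCompl Q).toRingEquiv
        exact ⟨e.symm.toMulEquiv.isDomain _, IsIntegrallyClosed.of_equiv e⟩
      haveI := isDomain_of_two_le_depth hd' fun Q _ hQ => (hloc Q hQ).1
      exact ⟨inferInstance, isIntegrallyClosed_of_two_le_depth hd' fun Q _ hQ => (hloc Q hQ).2⟩
  exact key ⟨p, ‹_›⟩

end Groth.Agent.DepthLib
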