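import Groth.Agent.DepthLib.RegularLocal

/-!
# Generators of the maximal ideal and quotients
-/

universe u

namespace Groth.Agent.DepthLib

variable {R : Type u} [CommRing R] [IsLocalRing R] [IsNoetherianRing R]

theorem exists_lift_generators (I : Ideal R) [IsLocalRing (R ⧸ I)] :
    ∃ S : Finset R, S.card ≤ (IsLocalRing.maximalIdeal (R ⧸ I)).spanFinrank ∧
      Ideal.span (S : Set R) ⊔ I = IsLocalRing.maximalIdeal R := by
  classical
  have hI : I ≤ IsLocalRing.maximalIdeal R :=
    IsLocalRing.le_maximalIdeal (fun h => not_subsingleton (R ⧸ I)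
      (Ideal.Quotient.subsingleton_iff.mpr h))
  have hmap : (IsLocalRing.maximalIdeal R).map (Ideal.Quotient.mk I) = IsLocalRing.maximalIdeal (R ⧸ I) :=
    IsLocalRing.eq_maximalIdeal (Ideal.IsMaximal.map_of_surjective_of_ker_le Ideal.Quotient.mk_surjective
      (by rw [Ideal.mk_ker]; exact hI))
  have hfg : (IsLocalRing.maximalIdeal (R ⧸ I)).FG := IsNoetherian.noetherian _
  let G : Finset (R ⧸ I) := (Submodule.FG.finite_generators hfg).toFinset
  have hGs : Ideal.span (G : Set (R ⧸ I)) = IsLocalRing.maximalIdeal (R ⧸ I) := by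
    simp [G, Ideal.span, Submodule.span_generators]
  let S : Finset R := G.image (Function.surjInv Ideal.Quotient.mk_surjective)
  refine ⟨S, ?_, ?_⟩
  · refine Finset.card_image_le.trans ?_
    rw [← Submodule.FG.generators_ncard hfg, Set.ncard_eq_toFinset_card _ (Submodule.FG.finite_generators hfg)]
  · have hS : (Ideal.span (S : Set R)).map (Ideal.Quotient.mk I) = IsLocalRing.maximalIdeal (R ⧸ I) := by
      rw [Ideal.map_span, ← hGs, Finset.coe_image, Set.image_image]
      congr 1
      simp [Function.surjInv_eq]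
    rw [← hmap] at hS
    have h2 := congrArg (Ideal.comap (Ideal.Quotient.mk I)) hS
    rwa [Ideal.comap_map_of_surjective' _ Ideal.Quotient.mk_surjective,
      Ideal.comap_map_of_surjective' _ Ideal.Quotient.mk_surjective, Ideal.mk_ker, sup_eq_left.mpr hI] at h2

end Groth.Agent.DepthLib
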