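import Groth.Agent.DepthLib.Reduced

/-!
# Depth one primes of a domain
-/

universe u

namespace Groth.Agent.DepthLib

open Pointwise
open LocCoh

variable {R : Type u} [CommRing R] [IsDomain R] [IsNoetherianRing R]

/-- In a Noetherian domain a prime `P` containing `a ≠ 0` is associated to `R/aR` iff `depth R_P = 1`. -/
theorem mem_associatedPrimes_quotient_singleton_iff {a : R} (ha : a ≠ 0) (P : Ideal R) [P.IsPrime]
    (haP : a ∈ P) :
    P ∈ associatedPrimes R (R ⧸ Ideal.span {a}) ↔
      depth (Localization.AtPrime P) (Localization.AtPrime P) = 1 := by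
  have e : QuotSMulTop a R ≃ₗ[R] R ⧸ Ideal.span {a} := Submodule.quotEquivOfEq _ _ (by
    rw [← Submodule.ideal_span_singleton_smul, smul_eq_mul, Ideal.mul_top])
  have hreg : IsSMulRegular (LocalizedModule P.primeCompl R) (algebraMap R (Localization.AtPrime P) a) := by
    rw [(localizedSelfEquiv P).isSMulRegular_congr]
    intro x y hxy
    exact mul_left_cancel₀ (fun h0 => ha (IsLocalization.injective (Localization.AtPrime P)
      P.primeCompl_le_nonZeroDivisors (by rw [h0, map_zero]))) hxy
  rw [← LinearEquiv.AssociatedPrimes.eq e, ← depth_localization_eq_zero_iff,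
    ← depth_localization_self, ← depth_localization_quotSMulTop_add_one P haP hreg]
  constructor
  · intro h; rw [h, zero_add]
  · intro h
    exact (ENat.add_left_injective_of_ne_top ENat.one_ne_top) (h.trans (zero_add _).symm)

/-- An element of the fraction field of a Noetherian domain lying in every `R_P` with `depth R_P = 1`
lies in `R`. -/
theorem mem_range_algebraMap_of_forall_depth_one {K : Type*} [CommRing K] [Algebra R K]
    [IsFractionRing R K] (x : K)
    (hx : ∀ (p : Ideal R) [p.IsPrime], depth (Localization.AtPrime p) (Localization.AtPrime p) = 1 →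
      ∃ a s : R, s ∉ p ∧ x * algebraMap R K s = algebraMap R K a) :
    x ∈ Set.range (algebraMap R K) := by
  obtain ⟨⟨y, z, hz⟩, hyz⟩ := IsLocalization.surj (nonZeroDivisors R) x
  have hz0 : z ≠ 0 := nonZeroDivisors.ne_zero hz
  by_cases hy : y ∈ Ideal.span {z}
  · obtain ⟨c, rfl⟩ := Ideal.mem_span_singleton'.mp hy
    refine ⟨c, ?_⟩
    refine (IsLocalization.map_units K (⟨z, hz⟩ : nonZeroDivisors R)).mul_left_injective ?_
    show algebraMap R K c * algebraMap R K z = x * algebraMap R K z
    rw [← map_mul]; exact hyz.symm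
  · exfalso
    have hne : Ideal.Quotient.mk (Ideal.span {z}) y ≠ 0 := fun h =>
      hy (Ideal.Quotient.eq_zero_iff_mem.mp h)
    obtain ⟨p, hp, hle⟩ := exists_le_isAssociatedPrime_of_isNoetherianRing R
      (Ideal.Quotient.mk (Ideal.span {z}) y) hne
    haveI := IsAssociatedPrime.isPrime hp
    have hzp : z ∈ p := hle (by
      rw [Submodule.mem_colon_singleton, Submodule.mem_bot]
      exact Ideal.Quotient.eq_zero_iff_mem.mpr
        (Ideal.mem_span_singleton'.mpr ⟨y, mul_comm y z⟩))
    obtain ⟨a, s, hs, has⟩ := hx p ((mem_associatedPrimes_quotient_singleton_iff hz0 p hzp).mp hp)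
    refine hs (hle ?_)
    rw [Submodule.mem_colon_singleton, Submodule.mem_bot]
    refine Ideal.Quotient.eq_zero_iff_mem.mpr (Ideal.mem_span_singleton'.mpr ⟨a, ?_⟩)
    refine IsFractionRing.injective R K ?_
    show algebraMap R K (a * z) = algebraMap R K (s * y)
    simp only at hyz
    rw [map_mul, map_mul, ← has, ← hyz]
    ring

end Groth.Agent.DepthLib
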