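import Groth.Agent.DepthLib.Basic
import Mathlib.RingTheory.Noetherian.Basic

/-!
# Depth of `Hom(M, N)`
-/

universe u v w

namespace Groth.Agent.DepthLib

open RingTheory.Sequence Submodule Pointwise
open LocCoh

variable {R : Type u} [CommRing R] {I : Ideal R}
variable {M : Type v} [AddCommGroup M] [Module R M] {N : Type w} [AddCommGroup N] [Module R N]

theorem isSMulRegular_linearMap {x : R} (hx : IsSMulRegular N x) : IsSMulRegular (M →ₗ[R] N) x :=
  fun _ _ h => LinearMap.ext fun m => hx (LinearMap.congr_fun h m)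

theorem isSMulRegular_quotSMulTop_linearMap {x y : R} (hx : IsSMulRegular N x)
    (hy : IsSMulRegular (QuotSMulTop x N) y) :
    IsSMulRegular (QuotSMulTop x (M →ₗ[R] N)) y := by
  rw [isSMulRegular_quotient_iff_mem_of_smul_mem] at hy ⊢
  intro φ hφ
  obtain ⟨ψ, -, hψ⟩ := (Submodule.mem_smul_pointwise_iff_exists _ _ _).mp hφ
  have hm : ∀ m, φ m ∈ LinearMap.range (LinearMap.lsmul R N x) := fun m => by
    obtain ⟨n, -, hn⟩ := (Submodule.mem_smul_pointwise_iff_exists _ _ _).mp
      (hy (φ m) ((Submodule.mem_smul_pointwise_iff_exists _ _ _).mpr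
        ⟨ψ m, trivial, by rw [← LinearMap.smul_apply, hψ, LinearMap.smul_apply]⟩))
    exact ⟨n, hn⟩
  let e := LinearEquiv.ofInjective (LinearMap.lsmul R N x) hx
  refine (Submodule.mem_smul_pointwise_iff_exists _ _ _).mpr
    ⟨e.symm.toLinearMap ∘ₗ φ.codRestrict _ hm, trivial, LinearMap.ext fun m => ?_⟩
  have := congrArg Subtype.val (e.apply_symm_apply (φ.codRestrict _ hm m))
  exact this

variable [IsNoetherianRing R] [Module.Finite R M] [Module.Finite R N]

theorem one_le_idealDepth_linearMap (h : 1 ≤ idealDepth I N) : 1 ≤ idealDepth I (M →ₗ[R] N) := by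
  obtain ⟨x, hx, hreg⟩ := one_le_idealDepth_iff.mp h
  exact one_le_idealDepth_iff.mpr ⟨x, hx, isSMulRegular_linearMap hreg⟩

theorem two_le_idealDepth_linearMap (h : 2 ≤ idealDepth I N) : 2 ≤ idealDepth I (M →ₗ[R] N) := by
  obtain ⟨x, hx, hreg, y, hy, hreg'⟩ := two_le_idealDepth_iff.mp h
  exact two_le_idealDepth_iff.mpr
    ⟨x, hx, isSMulRegular_linearMap hreg, y, hy, isSMulRegular_quotSMulTop_linearMap hreg hreg'⟩

end Groth.Agent.DepthLib
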