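import Groth.Agent.DepthLib.Reduced

/-!
# Depth of localisations of quotient rings
-/

universe u v

namespace Groth.Agent.DepthLib

open RingTheory.Sequence Submodule Pointwise
open LocCoh

variable {R : Type u} [CommRing R]

/-- For `I ≤ p`, the local ring of `R/I` at `p/I` has the depth of the `R_p`-module `R_p/IR_p`. -/
theorem depth_quotient_localization (I p : Ideal R) [p.IsPrime] (hIp : I ≤ p)
    (p' : Ideal (R ⧸ I)) [p'.IsPrime] (hp' : p' = p.map (Ideal.Quotient.mk I)) :
    depth (Localization.AtPrime p') (Localization.AtPrime p') =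
      depth (Localization.AtPrime p) (Localization.AtPrime p ⧸ I.map (algebraMap R (Localization.AtPrime p))) := by
  have hmem : ∀ x, Ideal.Quotient.mk I x ∈ p' ↔ x ∈ p := fun x => by
    rw [hp']; exact Ideal.mem_quotient_iff_mem hIp
  have hM : Algebra.algebraMapSubmonoid (R ⧸ I) p.primeCompl = p'.primeCompl := by
    ext y
    constructor
    · rintro ⟨x, hx, rfl⟩
      exact fun h => hx ((hmem x).mp h)
    · intro hy
      obtain ⟨x, rfl⟩ := Ideal.Quotient.mk_surjective y
      exact ⟨x, fun h => hy ((hmem x).mpr h), rfl⟩
  haveI : IsLocalization.AtPrime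
      (Localization.AtPrime p ⧸ I.map (algebraMap R (Localization.AtPrime p))) p' := by
    unfold IsLocalization.AtPrime
    rw [← hM]
    infer_instance
  let e : Localization.AtPrime p' ≃+* (Localization.AtPrime p ⧸ I.map (algebraMap R (Localization.AtPrime p))) :=
    (IsLocalization.algEquiv p'.primeCompl _ _).toRingEquiv
  letI : Algebra (Localization.AtPrime p) (Localization.AtPrime p') :=
    (e.symm.toRingHom.comp (Ideal.Quotient.mk _)).toAlgebra
  have hsurj : Function.Surjective (algebraMap (Localization.AtPrime p) (Localization.AtPrime p')) :=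
    e.symm.surjective.comp Ideal.Quotient.mk_surjective
  rw [depth_eq_of_surjective (M := Localization.AtPrime p') hsurj]
  refine depth_congr ?_
  refine { e.toAddEquiv with map_smul' := fun a z => ?_ }
  show e (e.symm (Ideal.Quotient.mk _ a) * z) = a • e z
  rw [map_mul, e.apply_symm_apply]
  exact (Algebra.smul_def a (e z)).symm

theorem height_map_quotient_eq_supportDim (I p : Ideal R) [p.IsPrime] (hIp : I ≤ p)
    (p' : Ideal (R ⧸ I)) [p'.IsPrime] (hp' : p' = p.map (Ideal.Quotient.mk I)) :
    (p'.height : WithBot ℕ∞) = ringKrullDim (Localization.AtPrime p ⧸ I.map (algebraMap R (Localization.AtPrime p))) := by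
  have hmem : ∀ x, Ideal.Quotient.mk I x ∈ p' ↔ x ∈ p := fun x => by
    rw [hp']; exact Ideal.mem_quotient_iff_mem hIp
  have hM : Algebra.algebraMapSubmonoid (R ⧸ I) p.primeCompl = p'.primeCompl := by
    ext y
    constructor
    · rintro ⟨x, hx, rfl⟩
      exact fun h => hx ((hmem x).mp h)
    · intro hy
      obtain ⟨x, rfl⟩ := Ideal.Quotient.mk_surjective y
      exact ⟨x, fun h => hy ((hmem x).mpr h), rfl⟩
  haveI : IsLocalization.AtPrime
      (Localization.AtPrime p ⧸ I.map (algebraMap R (Localization.AtPrime p))) p' := by
    unfold IsLocalization.AtPrime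
    rw [← hM]
    infer_instance
  exact (IsLocalization.AtPrime.ringKrullDim_eq_height p' _).symm

/-- At a prime containing a nonzerodivisor `t`: depth and height drop by one in `R/t`. -/
theorem depth_height_quotient_singleton [IsNoetherianRing R] {t : R} (ht : t ∈ nonZeroDivisors R)
    (p : Ideal R) [p.IsPrime] (htp : t ∈ p) (p' : Ideal (R ⧸ Ideal.span {t})) [p'.IsPrime]
    (hp' : p' = p.map (Ideal.Quotient.mk (Ideal.span {t}))) :
    depth (Localization.AtPrime p') (Localization.AtPrime p') + 1 =
        depth (Localization.AtPrime p) (Localization.AtPrime p) ∧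
      p'.height + 1 = p.height := by
  have hle : Ideal.span {t} ≤ p := (Ideal.span_singleton_le_iff_mem _).mpr htp
  have hmap : (Ideal.span ({t} : Set R)).map (algebraMap R (Localization.AtPrime p)) =
      Ideal.span {algebraMap R (Localization.AtPrime p) t} := by
    rw [Ideal.map_span, Set.image_singleton]
  have hreg0 : IsSMulRegular R t := fun a b h =>
    (mul_cancel_left_mem_nonZeroDivisors ht).mp h
  have hreg : IsSMulRegular (Localization.AtPrime p) (algebraMap R (Localization.AtPrime p) t) := by
    have := ((isWeaklyRegular_singleton_iff R t).mpr hreg0).of_isLocalization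
      (Localization.AtPrime p) p.primeCompl
    exact (isWeaklyRegular_singleton_iff _ _).mp this
  have hmem : algebraMap R (Localization.AtPrime p) t ∈ IsLocalRing.maximalIdeal (Localization.AtPrime p) :=
    (IsLocalization.AtPrime.to_map_mem_maximal_iff (Localization.AtPrime p) p t).mpr htp
  constructor
  · rw [depth_quotient_localization _ p hle p' hp', hmap]
    refine Eq.trans ?_ (idealDepth_quotSMulTop_add_one hmem hreg)
    rw [depth]
    congr 1
    exact idealDepth_congr (Submodule.quotEquivOfEq _ _
      (by rw [← Submodule.ideal_span_singleton_smul, smul_eq_mul, Ideal.mul_top]))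
  · have h1 := ringKrullDim_quotient_span_singleton_succ_eq_ringKrullDim hreg hmem
    rw [← hmap, ← height_map_quotient_eq_supportDim _ p hle p' hp',
      IsLocalization.AtPrime.ringKrullDim_eq_height p] at h1
    exact WithBot.coe_injective (by rw [WithBot.coe_add, WithBot.coe_one]; exact h1)

end Groth.Agent.DepthLib
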