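import Groth.Agent.DepthLib.Sk
import Groth.Agent.DepthLib.Hom
import Mathlib.Algebra.Module.FinitePresentation

/-!
# `(S_k)` for `Hom(M, N)`, `k ≤ 2`
-/

universe u v w

namespace Groth.Agent.DepthLib

open RingTheory.Sequence Submodule Pointwise
open LocCoh

variable {R : Type u} [CommRing R] {M : Type v} [AddCommGroup M] [Module R M]
  {N : Type w} [AddCommGroup N] [Module R N]

theorem annihilator_le_linearMap : Module.annihilator R N ≤ Module.annihilator R (M →ₗ[R] N) :=
  fun _ ha => Module.mem_annihilator.mpr fun _ =>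
    LinearMap.ext fun _ => Module.mem_annihilator.mp ha _

theorem supportDim_mono_of_annihilator_le {P : Type*} [AddCommGroup P] [Module R P] [Module.Finite R P]
    [Module.Finite R N] (h : Module.annihilator R N ≤ Module.annihilator R P) :
    Module.supportDim R P ≤ Module.supportDim R N :=
  Order.krullDim_le_of_strictMono (fun a => ⟨a.1, by
      rw [Module.support_eq_zeroLocus]
      exact PrimeSpectrum.zeroLocus_anti_mono h (Module.support_eq_zeroLocus (R := R) (M := P) ▸ a.2)⟩)
    (fun _ _ hlt => hlt)

/-- `Hom` commutes with localisation, linearly over the localised ring. -/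
noncomputable def localizedLinearMapEquiv [Module.FinitePresentation R M] (p : Ideal R) [p.IsPrime] :
    LocalizedModule p.primeCompl (M →ₗ[R] N) ≃ₗ[Localization.AtPrime p]
      (LocalizedModule p.primeCompl M →ₗ[Localization.AtPrime p] LocalizedModule p.primeCompl N) :=
  LinearEquiv.extendScalarsOfIsLocalization p.primeCompl (Localization.AtPrime p)
    (Module.FinitePresentation.linearEquivMapExtendScalars p.primeCompl)

theorem withBot_le_coe {X : WithBot ℕ∞} {k : ℕ} {a b : ℕ∞} (hk : X ≤ (k : WithBot ℕ∞))
    (ha : X ≤ (a : WithBot ℕ∞)) (h : ∀ n : ℕ, n ≤ k → (n : ℕ∞) ≤ a → (n : ℕ∞) ≤ b) :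
    X ≤ (b : WithBot ℕ∞) := by
  obtain ⟨n, hn⟩ := WithTop.ne_top_iff_exists.mp
    (ne_top_of_le_ne_top (ENat.coe_ne_top k) (min_le_left (k : ℕ∞) a))
  refine le_trans (?_ : X ≤ ((n : ℕ∞) : WithBot ℕ∞)) (WithBot.coe_le_coe.mpr
    (h n (Nat.cast_le.mp (hn ▸ min_le_left (k : ℕ∞) a)) (le_of_eq_of_le hn (min_le_right (k : ℕ∞) a))))
  rw [show ((n : ℕ∞)) = min (k : ℕ∞) a from hn, WithBot.coe_min]
  exact le_min hk ha

theorem hasSk_linearMap [IsNoetherianRing R] [Module.Finite R M] [Module.Finite R N] {k : ℕ}
    (hk : k ≤ 2) (h : HasSk k R N) : HasSk k R (M →ₗ[R] N) := by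
  intro p _
  haveI := Module.finitePresentation_of_finite R M
  let e := localizedLinearMapEquiv (M := M) (N := N) p
  rw [Module.supportDim_eq_of_equiv e, depth_congr e]
  refine withBot_le_coe (k := k) (a := depth (Localization.AtPrime p) (LocalizedModule p.primeCompl N))
    (min_le_left _ _) ?_ fun n hn hna => ?_
  · exact (min_le_min le_rfl (supportDim_mono_of_annihilator_le annihilator_le_linearMap)).trans (h p)
  · rcases n with _ | _ | _ | n
    · simp
    · exact one_le_idealDepth_linearMap (by simpa [depth] using hna)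
    · exact two_le_idealDepth_linearMap (by simpa [depth] using hna)
    · omega

end Groth.Agent.DepthLib
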