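import Groth.Agent.DepthLib.Kernel
import Groth.Agent.DepthLib.SkHom
import Groth.Agent.DepthLib.Reduced
import Mathlib.LinearAlgebra.Dual.Lemmas
import Mathlib.RingTheory.Localization.Module

/-!
# Reflexive modules: localisation and depth criteria
-/

universe u v

namespace Groth.Agent.DepthLib

open LocCoh

variable {R : Type u} [CommRing R] [IsNoetherianRing R]

/-- `f_p` is bijective if `f_q` is for `q < p`, `depth M_p ≥ 2` and `depth N_p ≥ 1`. -/
theorem bijective_localization_of_lt {M N : Type u} [AddCommGroup M] [Module R M] [Module.Finite R M]
    [AddCommGroup N] [Module R N] [Module.Finite R N] (f : M →ₗ[R] N) (p : Ideal R) [p.IsPrime]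
    (hlt : ∀ q : Ideal R, ∀ [q.IsPrime], q < p → Function.Bijective (LocalizedModule.map q.primeCompl f))
    (hM : 2 ≤ depth (Localization.AtPrime p) (LocalizedModule p.primeCompl M))
    (hN : 1 ≤ depth (Localization.AtPrime p) (LocalizedModule p.primeCompl N)) :
    Function.Bijective (LocalizedModule.map p.primeCompl f) := by
  have hsub : ∀ (q : Ideal R) [q.IsPrime], q < p →
      Subsingleton (LocalizedModule q.primeCompl (LinearMap.ker f)) ∧
        Subsingleton (LocalizedModule q.primeCompl (N ⧸ LinearMap.range f)) := by
    intro q _ hq
    have hb := hlt q hq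
    constructor
    · refine subsingleton_of_forall_eq 0 fun x => ?_
      refine LocalizedModule.map_injective q.primeCompl (LinearMap.ker f).subtype
        Subtype.val_injective (hb.1 ?_)
      rw [map_zero, map_zero]
      exact (LocalizedModule.map_exact q.primeCompl (LinearMap.ker f).subtype f
        (LinearMap.exact_subtype_ker_map f) _).mpr ⟨x, rfl⟩
    · refine subsingleton_of_forall_eq 0 fun x => ?_
      obtain ⟨y, rfl⟩ := LocalizedModule.map_surjective q.primeCompl (LinearMap.range f).mkQ
        (Submodule.mkQ_surjective _) x
      exact (LocalizedModule.map_exact q.primeCompl f (LinearMap.range f).mkQ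
        (LinearMap.exact_map_mkQ_range f) _).mpr (hb.2 y)
  have hkey : ∀ (K : Type u) [AddCommGroup K] [Module R K] [Module.Finite R K],
      (∀ (q : Ideal R) [q.IsPrime], q < p → Subsingleton (LocalizedModule q.primeCompl K)) →
      ¬ Subsingleton (LocalizedModule p.primeCompl K) → p ∈ associatedPrimes R K := by
    intro K _ _ _ hq hne
    obtain ⟨q, hqass, hqp⟩ := exists_associatedPrime_le_of_mem_support (q := ⟨p, inferInstance⟩)
      (show (⟨p, inferInstance⟩ : PrimeSpectrum R) ∈ Module.support R K from
        not_subsingleton_iff_nontrivial.mp hne)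
    haveI := IsAssociatedPrime.isPrime hqass
    rcases hqp.lt_or_eq with h | h
    · haveI := hq q h
      exact absurd (mem_support_of_mem_associatedPrimes (p := q) hqass) (not_nontrivial _)
    · exact (show q = p from h) ▸ hqass
  have hinj : Subsingleton (LocalizedModule p.primeCompl (LinearMap.ker f)) := by
    by_contra hne
    have hp := associatedPrimes.subset_of_injective (f := (LinearMap.ker f).subtype)
      Subtype.val_injective (hkey _ (fun q _ hq => (hsub q hq).1) hne)
    rw [(depth_localization_eq_zero_iff p).mpr hp] at hM
    exact absurd hM (by simp)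
  have hinj' : Function.Injective (LocalizedModule.map p.primeCompl f) := by
    rw [injective_iff_map_eq_zero]
    intro x hx
    obtain ⟨y, rfl⟩ := (LocalizedModule.map_exact p.primeCompl (LinearMap.ker f).subtype f
      (LinearMap.exact_subtype_ker_map f) _).mp hx
    rw [Subsingleton.elim y 0, map_zero]
  have hsur : Subsingleton (LocalizedModule p.primeCompl (N ⧸ LinearMap.range f)) := by
    by_contra hne
    have hp := hkey _ (fun q _ hq => (hsub q hq).2) hne
    have h1 := min_le_idealDepth_right (I := IsLocalRing.maximalIdeal (Localization.AtPrime p))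
      (f := LocalizedModule.map p.primeCompl f)
      (g := LocalizedModule.map p.primeCompl (LinearMap.range f).mkQ) hinj'
      (LocalizedModule.map_surjective _ _ (Submodule.mkQ_surjective _))
      (LocalizedModule.map_exact p.primeCompl f _ (LinearMap.exact_map_mkQ_range f))
    have h0 := (depth_localization_eq_zero_iff (M := N ⧸ LinearMap.range f) p).mpr hp
    rw [depth] at h0 hM hN
    rw [h0] at h1
    rcases min_le_iff.mp (le_of_eq_of_le rfl h1) with h | h
    · exact absurd (hN.trans h) (by simp)
    · have h2 : (2 : ℕ∞) ≤ _ := hM
      have := h2.trans (le_trans le_tsub_add (add_le_add h le_rfl))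
      simp at this
  refine ⟨hinj', fun y => ?_⟩
  exact (LocalizedModule.map_exact p.primeCompl f _ (LinearMap.exact_map_mkQ_range f) y).mp
    (Subsingleton.elim _ _)

/-- `f` is bijective if at each prime `f_p` is bijective or `depth M_p ≥ 2` and `depth N_p ≥ 1`. -/
theorem bijective_of_forall_localization {M N : Type u} [AddCommGroup M] [Module R M]
    [Module.Finite R M] [AddCommGroup N] [Module R N] [Module.Finite R N] (f : M →ₗ[R] N)
    (h : ∀ (p : Ideal R) [p.IsPrime], Function.Bijective (LocalizedModule.map p.primeCompl f) ∨
      (2 ≤ depth (Localization.AtPrime p) (LocalizedModule p.primeCompl M) ∧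
        1 ≤ depth (Localization.AtPrime p) (LocalizedModule p.primeCompl N))) :
    Function.Bijective f := by
  suffices hs : ∀ (n : ℕ∞) (p : Ideal R) [p.IsPrime], p.height = n →
      Function.Bijective (LocalizedModule.map p.primeCompl f) from
    bijective_of_localized_maximal f fun J _ => hs _ J rfl
  intro n
  induction n using WellFoundedLT.induction with
  | _ n IH =>
    intro p _ hn
    rcases h p with hb | ⟨h2, h1⟩
    · exact hb
    · exact bijective_localization_of_lt f p
        (fun q _ hq => IH q.height (hn ▸ Ideal.height_strict_mono_of_isPrime_of_isPrime hq) q rfl) h2 h1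

variable {M : Type u} [AddCommGroup M] [Module R M] [Module.Finite R M]

/-- `M_p` is reflexive iff the localised evaluation map is bijective. -/
theorem isReflexive_localization_iff (p : Ideal R) [p.IsPrime] :
    Module.IsReflexive (Localization.AtPrime p) (LocalizedModule p.primeCompl M) ↔
      Function.Bijective (LocalizedModule.map p.primeCompl (Module.Dual.eval R M)) := by
  haveI := Module.finitePresentation_of_finite R M
  haveI := Module.finitePresentation_of_finite R (Module.Dual R M)
  let A := Localization.AtPrime p
  let mk := LocalizedModule.mkLinearMap p.primeCompl M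
  let φ : Module.Dual R M →ₗ[R] Module.Dual A (LocalizedModule p.primeCompl M) :=
    IsLocalizedModule.mapExtendScalars p.primeCompl mk (Algebra.linearMap R A) A
  let ψ : Module.Dual R (Module.Dual R M) →ₗ[R]
      Module.Dual A (Module.Dual A (LocalizedModule p.primeCompl M)) :=
    IsLocalizedModule.mapExtendScalars p.primeCompl φ (Algebra.linearMap R A) A
  have hφ : ∀ h m, φ h (mk m) = algebraMap R A (h m) := fun h m =>
    IsLocalizedModule.map_apply p.primeCompl mk (Algebra.linearMap R A) h m
  have hψ : ∀ e h, ψ e (φ h) = algebraMap R A (e h) := fun e h =>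
    IsLocalizedModule.map_apply p.primeCompl φ (Algebra.linearMap R A) e h
  let e := IsLocalizedModule.linearEquiv p.primeCompl
    (LocalizedModule.mkLinearMap p.primeCompl (Module.Dual R (Module.Dual R M))) ψ
  have heq : ∀ x, Module.Dual.eval A (LocalizedModule p.primeCompl M) x =
      e (LocalizedModule.map p.primeCompl (Module.Dual.eval R M) x) := by
    refine fun x => LinearMap.congr_fun (f := (Module.Dual.eval A (LocalizedModule p.primeCompl M)).restrictScalars R)
      (g := e.toLinearMap ∘ₗ (LocalizedModule.map p.primeCompl (Module.Dual.eval R M)).restrictScalars R) ?_ x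
    refine IsLocalizedModule.ext p.primeCompl mk (IsLocalizedModule.map_units ψ) ?_
    ext m : 1
    show Module.Dual.eval A _ (mk m) = e (LocalizedModule.map p.primeCompl (Module.Dual.eval R M) (mk m))
    have h1 : LocalizedModule.map p.primeCompl (Module.Dual.eval R M) (mk m) =
        LocalizedModule.mkLinearMap p.primeCompl _ (Module.Dual.eval R M m) := by
      simp [mk, LocalizedModule.map_mk]
    rw [h1, IsLocalizedModule.linearEquiv_apply]
    refine LinearMap.restrictScalars_injective R ?_
    refine IsLocalizedModule.ext p.primeCompl φ (IsLocalizedModule.map_units (Algebra.linearMap R A)) ?_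
    ext h
    show φ h (mk m) = ψ (Module.Dual.eval R M m) (φ h)
    rw [hφ, hψ]; rfl
  constructor
  · intro hr
    have := hr.bijective_dual_eval'
    rw [show ⇑(Module.Dual.eval A (LocalizedModule p.primeCompl M)) =
      e ∘ LocalizedModule.map p.primeCompl (Module.Dual.eval R M) from funext heq] at this
    exact (Function.Bijective.of_comp_iff' e.bijective _).mp this
  · intro hb
    exact ⟨by rw [show ⇑(Module.Dual.eval A (LocalizedModule p.primeCompl M)) =
      e ∘ LocalizedModule.map p.primeCompl (Module.Dual.eval R M) from funext heq]
              exact e.bijective.comp hb⟩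

theorem isReflexive_localization [Module.IsReflexive R M] (p : Ideal R) [p.IsPrime] :
    Module.IsReflexive (Localization.AtPrime p) (LocalizedModule p.primeCompl M) :=
  (isReflexive_localization_iff p).mpr
    ⟨LocalizedModule.map_injective _ _ (Module.bijective_dual_eval R M).1,
      LocalizedModule.map_surjective _ _ (Module.bijective_dual_eval R M).2⟩

/-- The double dual has depth at least one where the ring has. -/
theorem one_le_depth_doubleDual (p : Ideal R) [p.IsPrime]
    (h : 1 ≤ depth (Localization.AtPrime p) (Localization.AtPrime p)) :
    1 ≤ depth (Localization.AtPrime p) (LocalizedModule p.primeCompl (Module.Dual R (Module.Dual R M))) := by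
  haveI := Module.finitePresentation_of_finite R (Module.Dual R M)
  rw [depth_congr (localizedLinearMapEquiv (M := Module.Dual R M) (N := R) p)]
  exact one_le_idealDepth_linearMap (by rwa [← depth_localization_self] at h)

/-- Reflexivity criterion. -/
theorem isReflexive_of_forall_localization
    (h : ∀ (p : Ideal R) [p.IsPrime],
      Module.IsReflexive (Localization.AtPrime p) (LocalizedModule p.primeCompl M) ∨
      (2 ≤ depth (Localization.AtPrime p) (LocalizedModule p.primeCompl M) ∧
        1 ≤ depth (Localization.AtPrime p) (Localization.AtPrime p))) :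
    Module.IsReflexive R M :=
  ⟨bijective_of_forall_localization _ fun p _ =>
    (h p).imp (isReflexive_localization_iff p).mp fun ⟨h2, h1⟩ => ⟨h2, one_le_depth_doubleDual p h1⟩⟩

end Groth.Agent.DepthLib
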