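import Mathlib.LinearAlgebra.Dual.Lemmas
import Mathlib.Algebra.Module.FinitePresentation
import Mathlib.RingTheory.Localization.FractionRing
import Mathlib.RingTheory.Localization.Module
import Mathlib.LinearAlgebra.Basis.VectorSpace
import Mathlib.RingTheory.Noetherian.Basic

/-!
# Reflexive modules over Noetherian domains
-/

universe u v w

namespace Groth.Agent.DepthLib

variable {R : Type u} [CommRing R] [IsDomain R] [IsNoetherianRing R]

/-- A functional on a submodule of a finite module over a Noetherian domain extends up to a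
nonzero factor. -/
theorem exists_smul_extend {M : Type v} {M' : Type w} [AddCommGroup M] [Module R M] [AddCommGroup M']
    [Module R M'] [Module.Finite R M'] {f : M →ₗ[R] M'} (hf : Function.Injective f)
    (ψ : Module.Dual R M) : ∃ c : R, c ≠ 0 ∧ ∃ ψ' : Module.Dual R M', ψ'.comp f = c • ψ := by
  haveI := Module.finitePresentation_of_finite R M'
  let S := nonZeroDivisors R
  let K := FractionRing R
  let i := LocalizedModule.mkLinearMap S M
  let i' := LocalizedModule.mkLinearMap S M'
  let ψK : LocalizedModule S M →ₗ[K] K :=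
    IsLocalizedModule.mapExtendScalars S i (Algebra.linearMap R K) K ψ
  obtain ⟨g, hg⟩ := (LocalizedModule.map S f).exists_leftInverse_of_injective
    (LinearMap.ker_eq_bot.mpr (LocalizedModule.map_injective S f hf))
  obtain ⟨ψ', s, hs⟩ := Module.FinitePresentation.exists_lift_of_isLocalizedModule S
    (Algebra.linearMap R K) ((ψK.comp g).restrictScalars R ∘ₗ i')
  refine ⟨s, nonZeroDivisors.ne_zero s.2, ψ', LinearMap.ext fun m => ?_⟩
  refine IsFractionRing.injective R K ?_
  show algebraMap R K (ψ' (f m)) = algebraMap R K ((s : R) • ψ m)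
  have h1 := LinearMap.congr_fun hs (f m)
  simp only [LinearMap.comp_apply, LinearMap.smul_apply, LinearMap.coe_restrictScalars,
    Algebra.linearMap_apply] at h1
  rw [h1, smul_eq_mul, map_mul]
  have h2 : i' (f m) = LocalizedModule.map S f (i m) := by simp [i, i', LocalizedModule.map_mk]
  have h3 : g (i' (f m)) = i m := by rw [h2]; exact LinearMap.congr_fun hg (i m)
  rw [h3, Submonoid.smul_def, Algebra.smul_def]
  exact congrArg _ (IsLocalizedModule.map_apply S i (Algebra.linearMap R K) ψ m)

/-- Torsion-free finite modules over a Noetherian domain are separated by functionals. -/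
theorem exists_dual_ne_zero {M : Type v} [AddCommGroup M] [Module R M] [Module.Finite R M]
    [Module.IsTorsionFree R M] {x : M} (hx : x ≠ 0) : ∃ ψ : Module.Dual R M, ψ x ≠ 0 := by
  have hinj : Function.Injective (LinearMap.toSpanSingleton R M x) := smul_left_injective R hx
  obtain ⟨c, hc, ψ, hψ⟩ := exists_smul_extend hinj LinearMap.id
  refine ⟨ψ, ?_⟩
  have := LinearMap.congr_fun hψ 1
  simp only [LinearMap.comp_apply, LinearMap.toSpanSingleton_apply, one_smul, LinearMap.smul_apply,
    LinearMap.id_apply, smul_eq_mul, mul_one] at this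
  rwa [this]

/-- Kernels of maps from reflexive to torsion-free modules are reflexive. -/
theorem isReflexive_of_exact {M : Type v} {M' : Type w} {M'' : Type*} [AddCommGroup M] [Module R M]
    [AddCommGroup M'] [Module R M'] [Module.Finite R M'] [AddCommGroup M''] [Module R M'']
    [Module.Finite R M''] (f : M →ₗ[R] M') (g : M' →ₗ[R] M'') (hf : Function.Injective f)
    (hfg : Function.Exact f g) [Module.IsReflexive R M'] [Module.IsTorsionFree R M''] :
    Module.IsReflexive R M := by
  refine ⟨fun a b h => hf ((Module.bijective_dual_eval R M').1 (LinearMap.ext fun ψ =>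
    LinearMap.congr_fun h (ψ.comp f))), fun φ => ?_⟩
  obtain ⟨m', hm'⟩ := (Module.bijective_dual_eval R M').2 (φ.comp f.dualMap)
  have hψ : ∀ ψ : Module.Dual R M', ψ m' = φ (ψ.comp f) := fun ψ => LinearMap.congr_fun hm' ψ
  have hg : g m' = 0 := by
    by_contra h0
    obtain ⟨χ, hχ⟩ := exists_dual_ne_zero (R := R) h0
    refine hχ ?_
    have := hψ (χ.comp g)
    rwa [LinearMap.comp_assoc, hfg.linearMap_comp_eq_zero, LinearMap.comp_zero, map_zero] at this
  obtain ⟨m, rfl⟩ := (hfg m').mp hg
  refine ⟨m, LinearMap.ext fun ψ => ?_⟩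
  obtain ⟨c, hc, ψ', h'⟩ := exists_smul_extend hf ψ
  refine mul_left_cancel₀ hc ?_
  show c * ψ m = c * φ ψ
  have h1 := LinearMap.congr_fun h' m
  rw [LinearMap.comp_apply, LinearMap.smul_apply, smul_eq_mul] at h1
  rw [← h1, hψ ψ', h', map_smul, smul_eq_mul]

omit [IsNoetherianRing R] in
/-- The cokernel of the dual of a surjection is torsion free. -/
theorem isTorsionFree_coker_dualMap {M : Type v} {P : Type w} [AddCommGroup M] [Module R M]
    [AddCommGroup P] [Module R P] {π : P →ₗ[R] M} (hπ : Function.Surjective π) :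
    Module.IsTorsionFree R (Module.Dual R P ⧸ LinearMap.range π.dualMap) := by
  refine ⟨fun r hr x y h => ?_⟩
  obtain ⟨x, rfl⟩ := Submodule.Quotient.mk_surjective _ x
  obtain ⟨y, rfl⟩ := Submodule.Quotient.mk_surjective _ y
  simp only [← Submodule.Quotient.mk_smul, Submodule.Quotient.eq] at h ⊢
  obtain ⟨e, he⟩ := h
  rw [LinearMap.range_dualMap_eq_dualAnnihilator_ker_of_surjective π hπ,
    Submodule.mem_dualAnnihilator]
  intro w hw
  have := LinearMap.congr_fun he w
  rw [LinearMap.dualMap_apply, LinearMap.mem_ker.mp hw, map_zero, LinearMap.sub_apply,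
    LinearMap.smul_apply, LinearMap.smul_apply, smul_eq_mul, smul_eq_mul, ← mul_sub] at this
  simpa [hr.ne_zero] using this.symm

/-- A finite reflexive module embeds into a finite free module with torsion-free cokernel. -/
theorem exists_embedding_of_isReflexive (M : Type v) [AddCommGroup M] [Module R M] [Module.Finite R M]
    [Module.IsReflexive R M] : ∃ (n : ℕ) (f : M →ₗ[R] (Fin n → R)), Function.Injective f ∧
      Module.IsTorsionFree R ((Fin n → R) ⧸ LinearMap.range f) := by
  obtain ⟨n, π, hπ⟩ := Module.Finite.exists_fin' R (Module.Dual R M)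
  let e : Module.Dual R (Fin n → R) ≃ₗ[R] (Fin n → R) := (Pi.basisFun R (Fin n)).toDualEquiv.symm
  refine ⟨n, e.toLinearMap ∘ₗ π.dualMap ∘ₗ (Module.evalEquiv R M).toLinearMap,
    e.injective.comp ((LinearMap.dualMap_injective_of_surjective hπ).comp
      (Module.evalEquiv R M).injective), ?_⟩
  haveI := isTorsionFree_coker_dualMap hπ
  let q : (Module.Dual R (Fin n → R) ⧸ LinearMap.range π.dualMap) ≃ₗ[R]
      ((Fin n → R) ⧸ LinearMap.range (e.toLinearMap ∘ₗ π.dualMap ∘ₗ (Module.evalEquiv R M).toLinearMap)) :=
    Submodule.Quotient.equiv _ _ e (by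
      rw [LinearMap.range_comp, LinearMap.range_comp, LinearEquiv.range, Submodule.map_top])
  exact q.symm.injective.moduleIsTorsionFree _ fun r x => q.symm.map_smul r x

omit [IsNoetherianRing R] in
theorem isTorsionFree_linearMap (M : Type v) (N : Type w) [AddCommGroup M] [Module R M] [AddCommGroup N]
    [Module R N] [Module.IsTorsionFree R N] : Module.IsTorsionFree R (M →ₗ[R] N) :=
  ⟨fun _ hr x y h => LinearMap.ext fun m => hr.isSMulRegular (LinearMap.congr_fun h m)⟩

/-- The dual of a finite module over a Noetherian domain is reflexive. -/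
theorem isReflexive_dual (M : Type v) [AddCommGroup M] [Module R M] [Module.Finite R M] :
    Module.IsReflexive R (Module.Dual R M) := by
  obtain ⟨n, π, hπ⟩ := Module.Finite.exists_fin' R M
  haveI := isTorsionFree_coker_dualMap hπ
  exact isReflexive_of_exact π.dualMap (LinearMap.range π.dualMap).mkQ
    (LinearMap.dualMap_injective_of_surjective hπ) (LinearMap.exact_map_mkQ_range _)

/-- `Hom(M, N)` is reflexive for finite `M` and reflexive `N`. -/
theorem isReflexive_linearMap (M : Type v) (N : Type w) [AddCommGroup M] [Module R M] [Module.Finite R M]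
    [AddCommGroup N] [Module R N] [Module.Finite R N] [Module.IsReflexive R N] :
    Module.IsReflexive R (M →ₗ[R] N) := by
  haveI := isReflexive_dual (R := R) (TensorProduct R M (Module.Dual R N))
  exact Module.equiv (((LinearEquiv.congrRight (Module.evalEquiv R N)) :
    (M →ₗ[R] N) ≃ₗ[R] (M →ₗ[R] Module.Dual R (Module.Dual R N))).trans
    (TensorProduct.lift.equiv (RingHom.id R) M (Module.Dual R N) R)).symm

end Groth.Agent.DepthLib
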