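import Groth.Agent.DepthLib.CohenMacaulay
import Mathlib.RingTheory.Ideal.GoingUp

/-!
# Dimension of `M_p` as a height in the support; finite restriction of scalars
-/

universe u v

namespace Groth.Agent.DepthLib

open LocCoh

variable {R : Type u} [CommRing R] [IsNoetherianRing R] {M : Type v} [AddCommGroup M] [Module R M]
  [Module.Finite R M]

/-- `dim M_p` is the height of `p` in the support of `M`. -/
theorem supportDim_localization_eq_height (p : Module.support R M) :
    Module.supportDim (Localization.AtPrime p.1.asIdeal) (LocalizedModule p.1.asIdeal.primeCompl M) =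
      Order.height p := by
  set P := p.1.asIdeal
  rw [Order.height_eq_krullDim_Iic, Module.supportDim]
  have hdisj : ∀ q : Ideal R, q ≤ P → Disjoint (P.primeCompl : Set R) (q : Set R) := fun q hq =>
    Set.disjoint_left.mpr fun a ha ha' => ha (hq ha')
  have hcm : ∀ q : Ideal R, q.IsPrime → q ≤ P →
      (q.map (algebraMap R (Localization.AtPrime P))).comap (algebraMap R (Localization.AtPrime P)) = q :=
    fun q hq hle => IsLocalization.comap_map_of_isPrime_disjoint P.primeCompl _ hq (hdisj q hle)
  refine le_antisymm ?_ ?_
  · have hmem : ∀ q ∈ Module.support (Localization.AtPrime P) (LocalizedModule P.primeCompl M),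
        (⟨q.asIdeal.comap (algebraMap R (Localization.AtPrime P)), inferInstance⟩ : PrimeSpectrum R)
          ∈ Module.support R M := by
      intro q hq
      obtain ⟨b, hb, hle⟩ := exists_associatedPrime_le_of_mem_support hq
      exact Module.mem_support_mono
        (p := ⟨_, IsAssociatedPrime.isPrime ((mem_associatedPrimes_localization_iff P b).mp hb)⟩)
        (Ideal.comap_mono hle)
        (mem_support_of_mem_associatedPrimes ((mem_associatedPrimes_localization_iff P b).mp hb))
    refine Order.krullDim_le_of_strictMono (fun q => ⟨⟨_, hmem q.1 q.2⟩, ?_⟩) ?_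
    · exact (Ideal.comap_mono (IsLocalRing.le_maximalIdeal q.1.isPrime.ne_top)).trans
        Localization.AtPrime.under_maximalIdeal.le
    · intro q₁ q₂ hlt
      change q₁.1.asIdeal.comap _ < q₂.1.asIdeal.comap _
      exact (IsLocalization.orderEmbedding P.primeCompl (Localization.AtPrime P)).strictMono
        (show q₁.1.asIdeal < q₂.1.asIdeal from hlt)
  · refine Order.krullDim_le_of_strictMono (fun q =>
      ⟨⟨q.1.1.asIdeal.map (algebraMap R (Localization.AtPrime P)),
        IsLocalization.isPrime_of_isPrime_disjoint P.primeCompl _ _ q.1.1.isPrime (hdisj _ q.2)⟩, ?_⟩) ?_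
    · obtain ⟨b, hb, hle⟩ := exists_associatedPrime_le_of_mem_support q.1.2
      have hbP : b ≤ P := hle.trans q.2
      haveI := IsAssociatedPrime.isPrime hb
      refine Module.mem_support_mono (p := ⟨b.map (algebraMap R (Localization.AtPrime P)),
        IsLocalization.isPrime_of_isPrime_disjoint P.primeCompl _ _ ‹_› (hdisj b hbP)⟩) (Ideal.map_mono hle) ?_
      refine mem_support_of_mem_associatedPrimes ?_
      rw [mem_associatedPrimes_localization_iff, hcm b ‹_› hbP]
      exact hb
    · intro q₁ q₂ hlt
      refine lt_of_le_of_ne (show q₁.1.1.asIdeal.map _ ≤ q₂.1.1.asIdeal.map _ from Ideal.map_mono hlt.le) ?_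
      intro he
      have h := congrArg (fun x : Module.support (Localization.AtPrime P) (LocalizedModule P.primeCompl M) =>
        x.1.asIdeal.comap (algebraMap R (Localization.AtPrime P))) he
      simp only [hcm _ q₁.1.1.isPrime q₁.2, hcm _ q₂.1.1.isPrime q₂.2] at h
      exact hlt.ne (Subtype.ext (Subtype.ext (PrimeSpectrum.ext h)))

end Groth.Agent.DepthLib
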